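import Groth.Agent.RootIntrinsic.Torus
import Groth.Agent.Chev.WeylFinite
import Mathlib.LinearAlgebra.Dimension.Finite

/-!
# Automorphisms of a torus realised in the group form a finite set
-/

set_option autoImplicit false
set_option backward.isDefEq.respectTransparency false
set_option linter.style.haveILetI false
set_option linter.unusedSectionVars false
set_option maxHeartbeats 1000000
set_option synthInstance.maxHeartbeats 400000

universe u

open CategoryTheory MonoidalCategory CartesianMonoidalCategory MonObj AlgebraicGeometry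
open Groth.Agent.HomDiag
open scoped CategoryTheory.Obj

noncomputable section

namespace Groth.Agent.RootIntrinsic

variable {k : Type u} [Field k]

theorem DSmap_comp_apply {M N P : Type} [AddCommGroup M] [AddCommGroup N] [AddCommGroup P] (θ : N →+ M) (ζ : P →+ N) :
    Red.DSmap (Spec (CommRingCat.of k)) θ ≫ Red.DSmap _ ζ = Red.DSmap _ (θ.comp ζ) := ch_ext fun n => by
  rw [ch_DSmap, ← Category.id_comp (Red.DSmap (Spec (CommRingCat.of k)) θ), ch_DSmap,
    ← Category.id_comp (Red.DSmap (Spec (CommRingCat.of k)) (θ.comp ζ)), ch_DSmap]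
  rfl

/-- The universal point of a diagonalisable group separates characters. -/
theorem exists_point_separating (M : Type) [AddCommGroup M] :
    ∃ (X : Over (Spec (CommRingCat.of k))) (x : X ⟶ Red.DS (Spec (CommRingCat.of k)) M),
      Function.Injective fun m : M => ch x (Multiplicative.ofAdd m) := by
  let A : Type u := MonoidAlgebra k (Multiplicative M)
  let X : Over (Spec (CommRingCat.of k)) := Over.mk (Spec.map (CommRingCat.ofHom (algebraMap k A)))
  obtain ⟨x, hx⟩ := exists_ch (S := Spec (CommRingCat.of k)) (M := M) (X := X)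
    (((Scheme.ΓSpecIso (CommRingCat.of A)).inv.hom.toMonoidHom).comp (MonoidAlgebra.of k (Multiplicative M)) :
      Multiplicative M →* Γ(Spec (CommRingCat.of A), ⊤))
  refine ⟨X, x, fun a b h => ?_⟩
  simp only [hx] at h
  exact Multiplicative.ofAdd.injective (MonoidAlgebra.of_injective
    ((Scheme.ΓSpecIso (CommRingCat.of A)).commRingCatIsoToRingEquiv.symm.injective h))

theorem DSmap_injective {M N : Type} [AddCommGroup M] [AddCommGroup N] {θ ζ : N →+ M}
    (h : Red.DSmap (Spec (CommRingCat.of k)) θ = Red.DSmap _ ζ) : θ = ζ := by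
  obtain ⟨X, x, hx⟩ := exists_point_separating (k := k) M
  refine AddMonoidHom.ext fun n => hx ?_
  show ch x (Multiplicative.ofAdd (θ n)) = ch x (Multiplicative.ofAdd (ζ n))
  rw [← toAdd_ofAdd n, ← ch_DSmap, ← ch_DSmap, h]

theorem surjective_of_mono_DSmap {M N : Type} [AddCommGroup M] [AddCommGroup N] (θ : N →+ M)
    [Mono (Red.DSmap (Spec (CommRingCat.of k)) θ)] : Function.Surjective θ := by
  let q := QuotientAddGroup.mk' θ.range
  have h0 : q.comp θ = 0 := AddMonoidHom.ext fun n => (QuotientAddGroup.eq_zero_iff _).2 ⟨n, rfl⟩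
  have h1 : Red.DSmap (Spec (CommRingCat.of k)) q = Red.DSmap _ (0 : M →+ (M ⧸ θ.range)) := by
    refine (cancel_mono (Red.DSmap (Spec (CommRingCat.of k)) θ)).1 ?_
    rw [DSmap_comp_apply, DSmap_comp_apply, h0, AddMonoidHom.zero_comp]
  intro m
  obtain ⟨n, hn⟩ := (QuotientAddGroup.eq_zero_iff m).1
    (show q m = 0 from congr($(DSmap_injective h1) m))
  exact ⟨n, hn⟩

variable {G T : Over (Spec (CommRingCat.of k))} [GrpObj G] [GrpObj T] {M : Type} [AddCommGroup M]

/-- The automorphism of a split torus of an endomorphism of the characters. -/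
def act (e : Grp.mk T ≅ Grp.mk (Red.DS (Spec (CommRingCat.of k)) M)) (θ : M →+ M) : T ⟶ T :=
  e.hom.hom.hom ≫ Red.DSmap _ θ ≫ e.inv.hom.hom

theorem inv_hom' (e : Grp.mk T ≅ Grp.mk (Red.DS (Spec (CommRingCat.of k)) M)) :
    e.inv.hom.hom ≫ e.hom.hom.hom = 𝟙 _ := congrArg (fun z => z.hom.hom) e.inv_hom_id

theorem hom_inv' (e : Grp.mk T ≅ Grp.mk (Red.DS (Spec (CommRingCat.of k)) M)) :
    e.hom.hom.hom ≫ e.inv.hom.hom = 𝟙 _ := congrArg (fun z => z.hom.hom) e.hom_inv_id

theorem act_comp (e : Grp.mk T ≅ Grp.mk (Red.DS (Spec (CommRingCat.of k)) M)) (θ ζ : M →+ M) :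
    act e θ ≫ act e ζ = act e (θ.comp ζ) := by
  rw [act, act, act, Category.assoc, Category.assoc, reassoc_of% (inv_hom' e), reassoc_of% (DSmap_comp_apply θ ζ)]

theorem act_id (e : Grp.mk T ≅ Grp.mk (Red.DS (Spec (CommRingCat.of k)) M)) :
    act e (AddMonoidHom.id M) = 𝟙 T := by
  have h : Red.DSmap (Spec (CommRingCat.of k)) (AddMonoidHom.id M) = 𝟙 _ := ch_ext fun m => by
    rw [← Category.id_comp (Red.DSmap (Spec (CommRingCat.of k)) (AddMonoidHom.id M)), ch_DSmap]
    rfl
  rw [act, h, Category.id_comp, hom_inv']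

theorem act_injective (e : Grp.mk T ≅ Grp.mk (Red.DS (Spec (CommRingCat.of k)) M)) :
    Function.Injective (act e) := fun θ ζ h => DSmap_injective (by
  have h2 := congrArg (fun z => e.inv.hom.hom ≫ z ≫ e.hom.hom.hom) h
  simp only [act, Category.assoc, inv_hom' e, Category.comp_id, reassoc_of% (inv_hom' e)] at h2
  exact h2)

/-- The rational point `h` normalises the torus and acts on it through `θ`. -/
def Realises (i : T ⟶ G) (e : Grp.mk T ≅ Grp.mk (Red.DS (Spec (CommRingCat.of k)) M))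
    (h : 𝟙_ (Over (Spec (CommRingCat.of k))) ⟶ G) (θ : M →+ M) : Prop :=
  ∀ (X : Over (Spec (CommRingCat.of k))) (t : X ⟶ T),
    (toUnit X ≫ h) * (t ≫ i) * (toUnit X ≫ h)⁻¹ = (t ≫ act e θ) ≫ i

variable {i : T ⟶ G} {e : Grp.mk T ≅ Grp.mk (Red.DS (Spec (CommRingCat.of k)) M)}

theorem realises_one : Realises i e 1 (AddMonoidHom.id M) := fun X t => by
  rw [MonObj.comp_one, _root_.one_mul, inv_one, _root_.mul_one, act_id, Category.comp_id]

theorem Realises.mul {h₁ h₂ : 𝟙_ (Over (Spec (CommRingCat.of k))) ⟶ G} {θ₁ θ₂ : M →+ M} (H₁ : Realises i e h₁ θ₁)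
    (H₂ : Realises i e h₂ θ₂) : Realises i e (h₁ * h₂) (θ₂.comp θ₁) := fun X t => by
  rw [← act_comp, ← Category.assoc, ← H₁ X (t ≫ act e θ₂), ← H₂ X t, MonObj.comp_mul, mul_inv_rev]
  simp only [_root_.mul_assoc]

theorem Realises.inv {h : 𝟙_ (Over (Spec (CommRingCat.of k))) ⟶ G} {θ θ' : M →+ M} (H : Realises i e h θ)
    (hθ : θ'.comp θ = AddMonoidHom.id M) : Realises i e h⁻¹ θ' := fun X t => by
  have := H X (t ≫ act e θ')
  rw [Category.assoc t (act e θ') (act e θ), act_comp, hθ, act_id, Category.comp_id] at this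
  rw [GrpObj.comp_inv, _root_.inv_inv]
  conv_lhs => rw [← this]
  group

/-- A transvection of the characters realised by a rational point is trivial. -/
theorem eq_zero_of_realises [IsAlgClosed k] [IsAffine G.left] [Smooth G.hom] [Module.Free ℤ M] [IsMonHom i] [Mono i]
    (hT : Red.IsTorus T) (h : 𝟙_ (Over (Spec (CommRingCat.of k))) ⟶ G) (f : M →+ ℤ) (a : M) (hfa : f a = 0)
    (ha : a ≠ 0) (H : Realises i e h (AddMonoidHom.id M + (zmultiplesHom M a).comp f)) : f = 0 := by
  let θ : ℤ → (M →+ M) := fun j => AddMonoidHom.id M + (zmultiplesHom M a).comp (j • f)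
  have hθ : ∀ j l, (θ j).comp (θ l) = θ (j + l) := fun j l => AddMonoidHom.ext fun x => by
    simp [θ, hfa, add_smul, mul_smul]
    abel
  have hθ0 : θ 0 = AddMonoidHom.id M := AddMonoidHom.ext fun x => by simp [θ]
  have hn : ∀ n : ℕ, Realises i e (h ^ n) (θ n) := fun n => by
    induction n with
    | zero => rw [pow_zero, Nat.cast_zero, hθ0]; exact realises_one
    | succ n ih =>
      have h1 : θ 1 = AddMonoidHom.id M + (zmultiplesHom M a).comp f := by simp [θ]
      have h2 := ih.mul (show Realises i e h (θ 1) from h1 ▸ H)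
      rw [hθ, ← pow_succ] at h2
      rwa [show ((n + 1 : ℕ) : ℤ) = 1 + (n : ℤ) by push_cast; ring]
  have hn' : ∀ n : ℕ, Realises i e (h ^ n)⁻¹ (θ (-(n : ℤ))) := fun n =>
    (hn n).inv (by rw [hθ, neg_add_cancel, hθ0])
  obtain ⟨C, _, c, hc, s, hs⟩ := Chev.Borel.exists_finite_weyl i hT
  have hrep : ∀ n : ℕ, ∃ m ∈ s, ∀ (X : Over (Spec (CommRingCat.of k))) (t : X ⟶ T),
      (toUnit X ≫ m) * (t ≫ i) * (toUnit X ≫ m)⁻¹ = (t ≫ act e (θ n)) ≫ i := fun n => by
    obtain ⟨m, hm, z, hz⟩ := hs (h ^ n) fun p => by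
      refine ⟨⟨p ≫ act e (θ n), ?_⟩, ⟨p ≫ act e (θ (-(n : ℤ))), ?_⟩⟩
      · have := hn n _ p
        rwa [toUnit_unique (toUnit _) (𝟙 _), Category.id_comp] at this
      · have := hn' n _ p
        rwa [toUnit_unique (toUnit _) (𝟙 _), Category.id_comp, _root_.inv_inv] at this
    refine ⟨m, hm, fun X t => ?_⟩
    rw [← hn n X t, hz, MonObj.comp_mul, mul_inv_rev]
    have hcomm := ((hc.2.2 _ (z ≫ c)).1 ⟨z, rfl⟩) X (toUnit X) t
    simp only [_root_.mul_assoc]
    rw [← _root_.mul_assoc (toUnit X ≫ z ≫ c) (t ≫ i), hcomm, _root_.mul_assoc, mul_inv_cancel_left]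
  choose m hm hmt using hrep
  haveI : Finite {x // x ∈ s} := inferInstance
  obtain ⟨j, l, hne, heq⟩ := Finite.exists_ne_map_eq_of_infinite fun n => (⟨m n, hm n⟩ : {x // x ∈ s})
  have e1 : act e (θ j) = act e (θ l) := by
    refine (cancel_mono i).1 ?_
    have h1 := hmt j T (𝟙 _)
    have h2 := hmt l T (𝟙 _)
    rw [show m j = m l from congrArg Subtype.val heq, h2, Category.id_comp, Category.id_comp] at h1
    exact h1.symm
  refine AddMonoidHom.ext fun x => ?_
  have e2 := congr($(act_injective e e1) x)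
  simp only [θ, AddMonoidHom.add_apply, AddMonoidHom.id_apply, AddMonoidHom.comp_apply, AddMonoidHom.smul_apply,
    zmultiplesHom_apply, add_right_inj, smul_eq_mul] at e2
  have e3 := smul_left_injective ℤ ha e2
  simp only [mul_eq_mul_right_iff] at e3
  exact e3.resolve_left fun hh => hne (by exact_mod_cast hh)

end Groth.Agent.RootIntrinsic
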