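import Groth.Agent.RootIntrinsic.Tangent
import Groth.Agent.MTQuot.Core
import Groth.Agent.MTBridge.CentralFibres
import Groth.Agent.MTBridge.ExtCentral
import Groth.Agent.HomDiag.DualConst

/-!
# Root homomorphisms after base change
-/

set_option autoImplicit false
set_option backward.isDefEq.respectTransparency false
set_option linter.style.haveILetI false
set_option linter.unusedSectionVars false
set_option maxHeartbeats 1000000
set_option synthInstance.maxHeartbeats 400000

universe u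

open CategoryTheory CategoryTheory.Limits MonoidalCategory CartesianMonoidalCategory MonObj AlgebraicGeometry
open Groth.Agent.HomDiag Groth.Agent.MTBridge
open Groth.Agent.BGaNotS (gaPt gaFn_gaPt gaPt_ext gaFn_comp gaFn_mul)
open scoped CategoryTheory.Obj

noncomputable section

namespace Groth.Agent.RootIntrinsic

variable {S U : Scheme.{u}} (f : U ⟶ S)

theorem comp_toBC {X Y : Over U} {G : Over S} (x : X ⟶ Y) (a : (Over.map f).obj Y ⟶ G) :
    x ≫ toBC f a = toBC f ((Over.map f).map x ≫ a) :=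
  ((Over.mapPullbackAdj f).homEquiv_naturality_left x a).symm

/-- A point of the additive group over `U`, seen over `S`. -/
def gaUp {X : Over U} (x : X ⟶ Red.Ga U) : (Over.map f).obj X ⟶ Red.Ga S :=
  gaPt (W := (Over.map f).obj X) (@Red.gaFn U X x)

theorem gaUp_mul {X : Over U} (x y : X ⟶ Red.Ga U) : gaUp f (x * y) = gaUp f x * gaUp f y :=
  gaPt_ext (by rw [gaFn_mul, gaUp, gaUp, gaUp, gaFn_gaPt, gaFn_gaPt, gaFn_gaPt, gaFn_mul])

/-- A point of the additive group over `S`, seen over `U`. -/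
def gaDown {X : Over U} (y : (Over.map f).obj X ⟶ Red.Ga S) : X ⟶ Red.Ga U :=
  gaPt (W := X) (@Red.gaFn S ((Over.map f).obj X) y)

theorem gaFn_gaDown {X : Over U} (y : (Over.map f).obj X ⟶ Red.Ga S) :
    Red.gaFn (gaDown f y) = @Red.gaFn S ((Over.map f).obj X) y := gaFn_gaPt _

theorem gaUp_gaDown {X : Over U} (y : (Over.map f).obj X ⟶ Red.Ga S) : gaUp f (gaDown f y) = y :=
  gaPt_ext (by rw [gaUp, gaFn_gaPt, gaFn_gaDown])

/-- The comparison of additive groups. -/
def gaBC : Red.Ga U ⟶ Red.bc f (Red.Ga S) := toBC f (gaUp f (𝟙 (Red.Ga U)))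

theorem comp_gaBC {X : Over U} (x : X ⟶ Red.Ga U) : x ≫ gaBC f = toBC f (gaUp f x) := by
  rw [gaBC, comp_toBC]
  refine congrArg (toBC f) (gaPt_ext ?_)
  rw [gaFn_comp, gaUp, gaUp, gaFn_gaPt, gaFn_gaPt]
  show x.left.appTop (Red.gaFn (𝟙 (Red.Ga U))) = _
  rw [← gaFn_comp, Category.comp_id]

instance isIso_gaBC : IsIso (gaBC f) := by
  obtain ⟨a₀, ha₀⟩ := exists_toBC' f (𝟙 (Red.bc f (Red.Ga S)))
  refine ⟨gaDown f a₀, ?_, ?_⟩
  · have h : (Over.map f).map (gaBC f) ≫ a₀ = gaUp f (𝟙 (Red.Ga U)) := by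
      refine ((Over.mapPullbackAdj f).homEquiv _ _).injective ?_
      show toBC f _ = toBC f _
      rw [← comp_toBC, ha₀, Category.comp_id]
      rfl
    refine gaPt_ext ?_
    rw [gaFn_comp, gaFn_gaDown]
    have h2 := congrArg Red.gaFn h
    rw [gaFn_comp, gaUp, gaFn_gaPt] at h2
    exact h2
  · rw [comp_gaBC, gaUp_gaDown, ha₀]

variable {T G : Over S} [GrpObj T] [GrpObj G]

/-- The base change of a homomorphism out of the additive group. -/
def uBC (u : Red.Ga S ⟶ G) : Red.Ga U ⟶ Red.bc f G := gaBC f ≫ (Over.pullback f).map u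

theorem comp_uBC (u : Red.Ga S ⟶ G) {X : Over U} (x : X ⟶ Red.Ga U) :
    x ≫ uBC f u = toBC f (gaUp f x ≫ u) := by
  rw [uBC, ← Category.assoc, comp_gaBC, toBC_comp]

/-- **Root homomorphisms are stable under base change.** -/
theorem isRootHom_uBC {i : T ⟶ G} {α : T ⟶ Red.Gm S} {u : Red.Ga S ⟶ G} (hu : Red.IsRootHom i α u)
    (α' : Red.bc f T ⟶ Red.Gm U)
    (hα : ∀ (X : Over U) (t : (Over.map f).obj X ⟶ T), Red.gmFn (toBC f t ≫ α') = Red.gmFn (t ≫ α)) :
    Red.IsRootHom ((Over.pullback f).map i) α' (uBC f u) := by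
  haveI := hu.1
  haveI := hu.2.1
  refine ⟨HomDiag.isMonHom_of_mul _ fun X a b => ?_, ?_, fun X t x => ?_⟩
  · rw [comp_uBC, comp_uBC, comp_uBC, gaUp_mul, MonObj.mul_comp, toBC_mul]
  · haveI : IsClosedImmersion ((Over.pullback f).map u).left := by
      have h1 : ((Over.pullback f).map u).left ≫ pullback.fst G.hom f = pullback.fst (Red.Ga S).hom f ≫ u.left :=
        pullback.lift_fst _ _ _
      have sq : IsPullback ((Over.pullback f).map u).left (pullback.fst (Red.Ga S).hom f) (pullback.fst G.hom f) u.left := by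
        refine IsPullback.of_right ?_ h1 (IsPullback.of_hasPullback G.hom f).flip
        rw [show ((Over.pullback f).map u).left ≫ pullback.snd G.hom f = pullback.snd (Red.Ga S).hom f from
          Over.w ((Over.pullback f).map u), Over.w u]
        exact (IsPullback.of_hasPullback (Red.Ga S).hom f).flip
      exact MorphismProperty.of_isPullback (P := @IsClosedImmersion) sq.flip inferInstance
    rw [uBC, Over.comp_left]
    haveI : IsIso (gaBC f).left := (Over.forget _).map_isIso (gaBC f)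
    infer_instance
  · obtain ⟨a, rfl⟩ := exists_toBC' f t
    obtain ⟨y, hy, hy'⟩ := hu.2.2 ((Over.map f).obj X) a (gaUp f x)
    refine ⟨gaDown f y, ?_, ?_⟩
    · rw [comp_uBC, gaUp_gaDown, eq_mul_inv_iff_mul_eq, ← toBC_comp, comp_uBC, ← toBC_mul, ← toBC_mul, hy, inv_mul_cancel_right]
    · rw [gaFn_gaDown, hy', gaUp, gaFn_gaPt, hα]

end Groth.Agent.RootIntrinsic
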