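import Groth.Agent.RootIntrinsic.Card
import Groth.Agent.RootIntrinsic.BaseChange
import Groth.Agent.MTBridge.Centralizer
import Groth.Agent.MTQuot.Diag
import Groth.Agent.MTTorus.CommFactor
import Groth.Agent.Chev.LargestNormal
import Groth.Agent.Chev.LargestSA
import Groth.Agent.FibCrit.Props

/-!
# The common kernel of the roots is central
-/

set_option autoImplicit false
set_option backward.isDefEq.respectTransparency false
set_option linter.style.haveILetI false
set_option linter.unusedSectionVars false
set_option maxHeartbeats 1000000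
set_option synthInstance.maxHeartbeats 400000

universe u

open CategoryTheory CategoryTheory.Limits MonoidalCategory CartesianMonoidalCategory MonObj AlgebraicGeometry
open Groth.Agent.HomDiag Groth.Agent.MTBridge
open scoped CategoryTheory.Obj

noncomputable section

namespace Groth.Agent.RootIntrinsic

variable {S : Scheme.{u}}

/-- A map over the base is an isomorphism when it is one on every geometric fibre. -/
theorem isIso_of_geomPts {A B : Over S} [LocallyOfFinitePresentation A.hom] [Flat A.hom]
    [LocallyOfFinitePresentation B.hom] (f : A ⟶ B) (h : ∀ s : S, IsIso ((Over.pullback (Red.geomPt s)).map f)) :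
    IsIso f := by
  have hi : IsIso f.left := FibCrit.isIso_of_fibres (Over.w f) fun s => by
    let j : Spec (CommRingCat.of (AlgebraicClosure (S.residueField s))) ⟶ Spec (S.residueField s) :=
      Spec.map (CommRingCat.ofHom (algebraMap (S.residueField s) (AlgebraicClosure (S.residueField s))))
    let τ := j ≫ S.fromSpecResidueField s
    haveI : IsIso ((Over.pullback τ).map f) := h s
    let F := ((Over.pullback τ).map f).left
    haveI : IsIso F := inferInstanceAs (IsIso ((Over.forget _).map ((Over.pullback τ).map f)))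
    let ψ : pullback B.hom τ ⟶ B.hom.fiber s :=
      pullback.lift (pullback.fst B.hom τ) (pullback.snd B.hom τ ≫ j) (by
        rw [Category.assoc]; exact pullback.condition)
    have hψ : IsPullback ψ (pullback.snd B.hom τ) (pullback.snd B.hom (S.fromSpecResidueField s)) j :=
      IsPullback.of_right (by
        rw [show ψ ≫ pullback.fst B.hom (S.fromSpecResidueField s) = pullback.fst B.hom τ from pullback.lift_fst _ _ _]
        exact IsPullback.of_hasPullback B.hom τ) (pullback.lift_snd _ _ _) (IsPullback.of_hasPullback _ _)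
    have hj : (@Surjective ⊓ @Flat ⊓ @QuasiCompact : MorphismProperty Scheme.{u}) j :=
      ⟨⟨inferInstance, inferInstance⟩, inferInstance⟩
    have hψp : (@Surjective ⊓ @Flat ⊓ @QuasiCompact : MorphismProperty Scheme.{u}) ψ :=
      MorphismProperty.of_isPullback hψ.flip hj
    have hF : F ≫ pullback.fst B.hom τ = pullback.fst A.hom τ ≫ f.left := by simp [F, Over.pullback]
    have sqA : IsPullback F (pullback.fst A.hom τ) (pullback.fst B.hom τ) f.left := by
      refine IsPullback.of_right ?_ hF (IsPullback.of_hasPullback B.hom τ).flip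
      rw [show F ≫ pullback.snd B.hom τ = pullback.snd A.hom τ from Over.w ((Over.pullback τ).map f),
        show f.left ≫ B.hom = A.hom from Over.w f]
      exact (IsPullback.of_hasPullback A.hom τ).flip
    let u : pullback A.hom τ ⟶ pullback f.left (B.hom.fiberι s) :=
      pullback.lift (pullback.fst A.hom τ) (F ≫ ψ) (by
        rw [Category.assoc, show ψ ≫ B.hom.fiberι s = pullback.fst B.hom τ from pullback.lift_fst _ _ _]
        exact hF.symm)
    have sqB : IsPullback F u ψ (pullback.snd f.left (B.hom.fiberι s)) := by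
      refine IsPullback.of_bot ?_ (pullback.lift_snd _ _ _).symm (IsPullback.of_hasPullback f.left (B.hom.fiberι s)).flip
      rw [show ψ ≫ B.hom.fiberι s = pullback.fst B.hom τ from pullback.lift_fst _ _ _,
        show u ≫ pullback.fst f.left (B.hom.fiberι s) = pullback.fst A.hom τ from pullback.lift_fst _ _ _]
      exact sqA
    exact MorphismProperty.of_isPullback_of_descendsAlong (P := MorphismProperty.isomorphisms Scheme.{u})
      (Q := (@Surjective ⊓ @Flat ⊓ @QuasiCompact : MorphismProperty Scheme.{u})) sqB hψp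
      (show IsIso F from inferInstance)
  haveI : IsIso ((Over.forget S).map f) := hi
  exact isIso_of_reflects_iso f (Over.forget S)

variable {G : Over S} [GrpObj G] (D : Red.SplitRed G)

/-- The characters of the common kernel of the roots. -/
abbrev KerChar : Type := D.M ⧸ AddSubgroup.closure (Set.range fun a : D.idx => D.P.root a)

/-- The common kernel of the roots. -/
def kerRoots : Red.DS S (KerChar D) ⟶ G :=
  (Red.DSmap S (QuotientAddGroup.mk' _) ≫ D.split.inv.hom.hom) ≫ D.i

instance isMonHom_kerRoots : IsMonHom (kerRoots D) := by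
  haveI := D.maximalTorus.1
  haveI : IsMonHom D.split.inv.hom.hom := D.split.inv.hom.isMonHom_hom
  haveI : IsMonHom (Red.DSmap S (QuotientAddGroup.mk' (AddSubgroup.closure (Set.range fun a : D.idx => D.P.root a)))) :=
    MTQuot.isMonHom_DSmap _
  unfold kerRoots
  infer_instance

theorem gmFn_one_eq {X : Over S} : Red.gmFn (1 : X ⟶ Red.Gm S) = 1 := by rw [gmFn_eq_ch, ch_one]

/-- A point of the torus killed by all roots lies in their common kernel. -/
theorem exists_factor_kerRoots {X : Over S} (t : X ⟶ D.T)
    (h : ∀ a : D.idx, t ≫ D.split.hom.hom.hom ≫ Red.chi S (D.P.root a) = 1) :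
    ∃ c : X ⟶ Red.DS S (KerChar D), c ≫ kerRoots D = t ≫ D.i := by
  let φ : D.M →+ Additive Γ(X.left, ⊤) :=
    { toFun := fun m => Additive.ofMul (ch (t ≫ D.split.hom.hom.hom) (Multiplicative.ofAdd m))
      map_zero' := by rw [ofAdd_zero, map_one]; rfl
      map_add' := fun a b => by rw [ofAdd_add, map_mul]; rfl }
  have hφ : AddSubgroup.closure (Set.range fun a : D.idx => D.P.root a) ≤ φ.ker := by
    rw [AddSubgroup.closure_le]
    rintro _ ⟨a, rfl⟩
    show Additive.ofMul (ch (t ≫ D.split.hom.hom.hom) (Multiplicative.ofAdd (D.P.root a))) = 0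
    rw [← gmFn_chi, Category.assoc, h a, gmFn_one_eq]
    rfl
  let φ' : KerChar D →+ Additive Γ(X.left, ⊤) := QuotientAddGroup.lift _ φ hφ
  obtain ⟨c, hc⟩ := exists_ch (S := S) (M := KerChar D) (X := X)
    { toFun := fun m => (φ' m.toAdd).toMul
      map_one' := by rw [toAdd_one, map_zero]; rfl
      map_mul' := fun a b => by rw [toAdd_mul, map_add]; rfl }
  refine ⟨c, ?_⟩
  have h1 : c ≫ Red.DSmap S (QuotientAddGroup.mk' _) = t ≫ D.split.hom.hom.hom := ch_ext fun m => by
    rw [ch_DSmap, hc]
    rfl
  have h2 : D.split.hom.hom.hom ≫ D.split.inv.hom.hom = 𝟙 D.T := congrArg (fun z => z.hom.hom) D.split.hom_inv_id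
  rw [kerRoots, Category.assoc, reassoc_of% h1, reassoc_of% h2]

/-- **The common kernel of the roots is central.** -/
theorem kerRoots_central {X : Over S} (c : X ⟶ Red.DS S (KerChar D)) (g : X ⟶ G) :
    (c ≫ kerRoots D) * g = g * (c ≫ kerRoots D) := by
  have hH : TwC.Locally S TwC.Topology.fpqc (fun S' f => ∃ (M : Type) (_ : AddCommGroup M),
      Nonempty (Grp.mk (Red.bc f (Red.DS S (KerChar D))) ≅ Grp.mk (Red.DS S' M))) :=
    ⟨S, 𝟙 S, inferInstance, inferInstance, fun V hV => ⟨V, hV.isCompact, Set.image_id _⟩,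
      fun _ => ⟨⊤, trivial, KerChar D, inferInstance, ⟨bcDS _ _⟩⟩⟩
  obtain ⟨Z, _, j, ⟨hjm, hjmono, hZ⟩, hjc, hZs⟩ :=
    MTBridge.exists_centralizer (Red.DS S (KerChar D)) G hH D.reductive.2.1 D.reductive.1 (kerRoots D)
  haveI := hjm; haveI := hjmono; haveI := hjc; haveI := hZs
  haveI : IsAffineHom G.hom := D.reductive.1
  haveI : Smooth G.hom := D.reductive.2.1
  haveI := D.maximalTorus.1
  haveI := D.maximalTorus.2.1
  have hroot : ∀ (a : D.idx) {Y : Over S} (h : Y ⟶ Red.DS S (KerChar D)) (x : Y ⟶ Red.Ga S),
      (x ≫ D.u a) * (h ≫ kerRoots D) = (h ≫ kerRoots D) * (x ≫ D.u a) := fun a Y h x => by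
    obtain ⟨y, hy, hy'⟩ := (D.rootHom a).2.2 Y (h ≫ Red.DSmap S (QuotientAddGroup.mk' _) ≫ D.split.inv.hom.hom) x
    have e : (h ≫ Red.DSmap S (QuotientAddGroup.mk' (AddSubgroup.closure (Set.range fun a : D.idx => D.P.root a))) ≫
        D.split.inv.hom.hom) ≫ D.i = h ≫ kerRoots D := by rw [kerRoots]; simp only [Category.assoc]
    have h3 : D.split.inv.hom.hom ≫ D.split.hom.hom.hom = 𝟙 (Red.DS S D.M) :=
      congrArg (fun z => z.hom.hom) D.split.inv_hom_id
    have hyx : y = x := by
      refine BGaNotS.gaPt_ext (hy'.trans ?_)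
      rw [Category.assoc, Category.assoc, reassoc_of% h3, ← Category.assoc, gmFn_chi, ch_DSmap, toAdd_ofAdd,
        show (QuotientAddGroup.mk' (AddSubgroup.closure (Set.range fun a : D.idx => D.P.root a))) (D.P.root a) = 0 from (QuotientAddGroup.eq_zero_iff _).2 (AddSubgroup.subset_closure ⟨a, rfl⟩), ofAdd_zero, map_one,
        _root_.one_mul]
    rw [hyx, e, eq_mul_inv_iff_mul_eq] at hy
    exact hy
  have hu : ∀ a, ∃ z : Red.Ga S ⟶ Z, z ≫ j = D.u a := fun a =>
    (hZ _ _).2 fun Y x h => hroot a h x
  obtain ⟨iZ, hiZ⟩ : ∃ z : D.T ⟶ Z, z ≫ j = D.i := (hZ _ _).2 fun Y x h => by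
    rw [kerRoots, ← Category.assoc h, ← MonObj.mul_comp, MTTorus.mul_comm_of_iso_DS D.split, MonObj.mul_comp]
  choose uZ huZ using hu
  haveI : IsMonHom iZ := MTSplit.isMonHom_of_comp_mono iZ j D.i hiZ
  haveI : Mono iZ := by
    haveI : Mono (iZ ≫ j) := hiZ ▸ inferInstanceAs (Mono D.i)
    exact mono_of_mono iZ j
  have huZr : ∀ a, Red.IsRootHom iZ (D.split.hom.hom.hom ≫ Red.chi S (D.P.root a)) (uZ a) := fun a => by
    haveI := (D.rootHom a).1
    haveI : IsClosedImmersion ((uZ a).left ≫ j.left) := by
      rw [← Over.comp_left, huZ a]; exact (D.rootHom a).2.1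
    refine ⟨MTSplit.isMonHom_of_comp_mono (uZ a) j (D.u a) (huZ a), IsClosedImmersion.of_comp (uZ a).left j.left,
      fun Y t x => ?_⟩
    obtain ⟨y, hy, hy'⟩ := (D.rootHom a).2.2 Y t x
    refine ⟨y, (cancel_mono j).1 ?_, hy'⟩
    rw [MonObj.mul_comp, MonObj.mul_comp, GrpObj.inv_comp, Category.assoc, Category.assoc, Category.assoc, huZ, hiZ]
    exact hy
  haveI : IsIso j := isIso_of_geomPts j fun s => by
    obtain ⟨hGa, hGs, hGc, -⟩ := D.reductive.2.2 s
    haveI := hGa; haveI := hGs; haveI := hGc
    haveI : IrreducibleSpace ↥(Red.geomFibre s G).left := by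
      haveI := Chev.CharQuot.smooth_tensor_irreducible (Red.geomFibre s G)
      infer_instance
    haveI : IsAffineHom Z.hom := by rw [← Over.w j]; infer_instance
    haveI : IsAffine (Red.geomFibre s Z).left :=
      haveI : IsAffineHom (Red.geomFibre s Z).hom := inferInstanceAs (IsAffineHom (pullback.snd Z.hom _))
      isAffine_of_isAffineHom (Red.geomFibre s Z).hom
    haveI : Smooth (Red.geomFibre s Z).hom := inferInstanceAs (Smooth (pullback.snd Z.hom _))
    haveI : PreservesLimitsOfShape WalkingCospan (Over.pullback (Red.geomPt s)) :=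
      (Adjunction.rightAdjoint_preservesLimits (Over.mapPullbackAdj (Red.geomPt s))).preservesLimitsOfShape
    haveI : IsClosedImmersion ((Over.pullback (Red.geomPt s)).map j).left := by
      have h1 : ((Over.pullback (Red.geomPt s)).map j).left ≫ pullback.fst G.hom (Red.geomPt s) =
          pullback.fst Z.hom (Red.geomPt s) ≫ j.left := pullback.lift_fst _ _ _
      have sq : IsPullback ((Over.pullback (Red.geomPt s)).map j).left (pullback.fst Z.hom (Red.geomPt s))
          (pullback.fst G.hom (Red.geomPt s)) j.left := by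
        refine IsPullback.of_right ?_ h1 (IsPullback.of_hasPullback G.hom (Red.geomPt s)).flip
        rw [show ((Over.pullback (Red.geomPt s)).map j).left ≫ pullback.snd G.hom (Red.geomPt s) =
          pullback.snd Z.hom (Red.geomPt s) from Over.w ((Over.pullback (Red.geomPt s)).map j), Over.w j]
        exact (IsPullback.of_hasPullback Z.hom (Red.geomPt s)).flip
      exact MorphismProperty.of_isPullback (P := @IsClosedImmersion) sq.flip inferInstance
    obtain ⟨m, hm⟩ := Chev.exists_natDim' (Red.geomFibre s Z)
    have hle := card_add_rank_le (bcMapIso (Red.geomPt s) D.split ≪≫ bcDS (Red.geomPt s) D.M)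
      ((Over.pullback (Red.geomPt s)).map iZ) (fun a => D.P.root a)
      (fun a h => by
        have h2 := D.P.root_coroot_two a
        rw [show D.P.root a = 0 from h, map_zero, LinearMap.zero_apply] at h2
        omega)
      D.P.root.injective (fun a => uBC (Red.geomPt s) (uZ a))
      (fun a => isRootHom_uBC (Red.geomPt s) (huZr a) _ fun X t => by
        show Red.gmFn (toBC (Red.geomPt s) t ≫
          ((Over.pullback (Red.geomPt s)).map D.split.hom.hom.hom ≫ (bcDS (Red.geomPt s) D.M).hom.hom.hom) ≫
            Red.chi _ (D.P.root a)) = _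
        rw [← Category.assoc, ← Category.assoc (toBC (Red.geomPt s) t), ← toBC_comp, gmFn_chi,
          MTQuot.ch_toBC_bcDS, ← gmFn_chi, Category.assoc]) m hm
    haveI : Surjective ((Over.pullback (Red.geomPt s)).map j).left :=
      surjective_of_dim_le _ _ (D.dim_fibre s) (by
        rw [hm]
        exact_mod_cast (show Module.finrank ℤ D.M + Fintype.card D.idx ≤ m by omega))
    haveI : IsReduced (Red.geomFibre s G).left := SmoothRed.isReduced_of_smooth_scheme (Red.geomFibre s G).hom
    haveI : IsIso ((Over.pullback (Red.geomPt s)).map j).left := isIso_of_isClosedImmersion_of_surjective _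
    haveI : IsIso ((Over.forget _).map ((Over.pullback (Red.geomPt s)).map j)) :=
      ‹IsIso ((Over.pullback (Red.geomPt s)).map j).left›
    exact isIso_of_reflects_iso _ (Over.forget _)
  have h := ((hZ X g).1 ⟨g ≫ inv j, by rw [Category.assoc, IsIso.inv_hom_id, Category.comp_id]⟩) X (𝟙 X) c
  rw [Category.id_comp] at h
  exact h.symm

end Groth.Agent.RootIntrinsic
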