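import Groth.Agent.RootIntrinsic.Roots
import Groth.Agent.Chev.CharQuot

/-!
# A torus and root groups bound the dimension from below
-/

set_option autoImplicit false
set_option backward.isDefEq.respectTransparency false
set_option linter.style.haveILetI false
set_option linter.unusedSectionVars false
set_option maxHeartbeats 1000000
set_option synthInstance.maxHeartbeats 400000

universe u

open CategoryTheory MonoidalCategory CartesianMonoidalCategory MonObj AlgebraicGeometry LieS
open Groth.Agent.LieWeight Groth.Agent.HomDiag LaurentPolynomial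
open scoped CategoryTheory.Obj

noncomputable section

namespace Groth.Agent.RootIntrinsic

variable {k : Type u} [Field k] {Z T : Over (Spec (CommRingCat.of k))} [GrpObj Z] [GrpObj T] [IsAffine Z.left]
  [Smooth Z.hom] {M : Type} [AddCommGroup M] [Module.Finite ℤ M] [Module.Free ℤ M]

/-- **A split torus and root groups of distinct non-zero characters bound the dimension from below.** -/
theorem card_add_rank_le (e : Grp.mk T ≅ Grp.mk (Red.DS (Spec (CommRingCat.of k)) M)) (i : T ⟶ Z) [IsMonHom i] [Mono i]
    {J : Type} [Fintype J] (ρr : J → M) (hρr0 : ∀ j, ρr j ≠ 0) (hρr : Function.Injective ρr)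
    (u : J → (Red.Ga (Spec (CommRingCat.of k)) ⟶ Z))
    (hu : ∀ j, Red.IsRootHom i (e.hom.hom.hom ≫ Red.chi _ (ρr j)) (u j)) (n : ℕ)
    (hdim : topologicalKrullDim ↥Z.left = (n : WithBot ℕ∞)) : Fintype.card J + Module.finrank ℤ M ≤ n := by
  classical
  obtain ⟨l, hl⟩ := exists_functional ((Set.range fun p : J × J => ρr p.1 - ρr p.2) ∪ Set.range ρr)
    ((Set.finite_range _).union (Set.finite_range _))
  have hl0 : ∀ j, l (ρr j) ≠ 0 := fun j h => hρr0 j (hl _ (Or.inr ⟨j, rfl⟩) h)
  have hlinj : ∀ j j', l (ρr j) = l (ρr j') → j = j' := fun j j' h =>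
    hρr (sub_eq_zero.1 (hl _ (Or.inl ⟨(j, j'), rfl⟩) (by rw [map_sub, h, sub_self])))
  haveI : ∀ j, IsMonHom (u j) := fun j => (hu j).1
  haveI : ∀ j, Mono (u j) := fun j => by
    haveI := (hu j).2.1
    exact (Over.forget _).mono_of_mono_map (show Mono (u j).left from inferInstance)
  haveI : IsMonHom e.inv.hom.hom := e.inv.hom.isMonHom_hom
  haveI : IsIso e.inv.hom.hom := ⟨e.hom.hom.hom,
    congrArg (fun z => z.hom.hom) e.inv_hom_id, congrArg (fun z => z.hom.hom) e.hom_inv_id⟩
  let c₀ : Red.DS (Spec (CommRingCat.of k)) ℤ ⟶ T := Red.DSmap _ l ≫ e.inv.hom.hom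
  have hc₀ : ∀ j (X : Over (Spec (CommRingCat.of k))) (x : X ⟶ Red.DS (Spec (CommRingCat.of k)) ℤ),
      Red.gmFn (x ≫ c₀ ≫ e.hom.hom.hom ≫ Red.chi _ (ρr j)) = ch x (Multiplicative.ofAdd (l (ρr j))) := fun j X x => by
    have h : e.inv.hom.hom ≫ e.hom.hom.hom = 𝟙 (Red.DS (Spec (CommRingCat.of k)) M) :=
      congrArg (fun z => z.hom.hom) e.inv_hom_id
    have e' : x ≫ c₀ ≫ e.hom.hom.hom ≫ Red.chi _ (ρr j) = (x ≫ Red.DSmap _ l) ≫ Red.chi _ (ρr j) := by
      rw [Category.assoc, Category.assoc, reassoc_of% h]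
    rw [e', gmFn_chi, ch_DSmap]
    rfl
  let b := Module.finBasis ℤ M
  choose w hw using fun j => exists_tanDS (k := k) ((Int.castAddHom k).comp (b.coord j).toAddMonoidHom)
  let v : J ⊕ Fin (Module.finrank ℤ M) → Lie Z k (f₀ (k := k)) :=
    Sum.elim (fun o => vU (u o)) (fun j => lieMap i (lieMap e.inv.hom.hom (w j)))
  let wt : J ⊕ Fin (Module.finrank ℤ M) → ℤ := Sum.elim (fun o => l (ρr o)) (fun _ => 0)
  have hwt : ∀ j, Ad Z (LaurentPolynomial k) (fT f₀) (xT f₀ ≫ c₀ ≫ i) (pl C rfl (v j)) =
      (LaurentPolynomial.T (wt j) : LaurentPolynomial k) • pl C rfl (v j) := by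
    rintro (o | j)
    · exact weight_vU (hu o) c₀ (l (ρr o)) (hc₀ o)
    · exact weight_zero i (comm_of_split e) c₀ (lieMap e.inv.hom.hom (w j))
  have hlin : LinearIndependent k fun j => dv (v j) := by
    rw [Fintype.linearIndependent_iff]
    intro a ha
    have hroot : ∀ o, a (Sum.inl o) = 0 := fun o => by
      have h := sum_filter_eq_zero (c₀ ≫ i) v wt hwt a ha (l (ρr o))
      rw [Finset.sum_eq_single (Sum.inl o : J ⊕ Fin (Module.finrank ℤ M))] at h
      · exact (smul_eq_zero.1 h).resolve_right (dv_ne_zero (vU_ne_one (u o)))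
      · rintro (o' | j) hj hne'
        · exact absurd (congrArg Sum.inl (hlinj o' o (Finset.mem_filter.1 hj).2)) hne'
        · exact absurd (Finset.mem_filter.1 hj).2.symm (hl0 o)
      · intro h'
        refine (h' ?_).elim
        exact Finset.mem_filter.2 ⟨Finset.mem_univ _, rfl⟩
    have htor : ∀ j, a (Sum.inr j) = 0 := by
      have h1 : ∑ j, a (Sum.inr j) • dv (v (Sum.inr j)) = 0 := by
        have h := ha
        rw [Fintype.sum_sum_type] at h
        simpa [hroot] using h
      have h2 : ∏ j, a (Sum.inr j) • w j = 1 := by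
        refine lieMap_injective e.inv.hom.hom (lieMap_injective i (dv_injective (funext fun x => ?_)))
        rw [map_prod, map_prod, map_one, map_one, dv_prod, dv_one]
        simp only [lieMap_smul, dv_smul]
        refine Eq.trans ?_ (congrFun h1 x)
        simp [Finset.sum_apply, v]
      intro j
      have h3 := eq_zero_of_prod_eq_one _ w hw (fun j => a (Sum.inr j)) h2 (b j)
      rw [Finset.sum_eq_single j] at h3
      · simpa [b.coord_apply, b.repr_self] using h3
      · intro i _ hi
        simp [b.coord_apply, b.repr_self, Finsupp.single_apply, Ne.symm hi]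
      · exact fun h' => absurd (Finset.mem_univ j) h'
    rintro (o | j)
    · exact hroot o
    · exact htor j
  have h := card_le_of_linearIndependent _ hdim v hlin
  simpa using h

omit [Smooth Z.hom] [IsAffine Z.left] [GrpObj Z] in
/-- A closed subscheme of full finite dimension in an irreducible scheme is everything. -/
theorem surjective_of_dim_le {X Y : Scheme.{u}} (f : X ⟶ Y) [IsClosedImmersion f] [IrreducibleSpace ↥Y] (n : ℕ)
    (hY : topologicalKrullDim ↥Y = (n : WithBot ℕ∞)) (hX : (n : WithBot ℕ∞) ≤ topologicalKrullDim ↥X) :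
    Surjective f := by
  refine ⟨Set.range_eq_univ.1 (by_contra fun hne => ?_)⟩
  obtain ⟨l, hl⟩ := Order.le_krullDim_iff.1 hX
  let φ := TopologicalSpace.IrreducibleCloseds.map f f.continuous
  have hφ : StrictMono φ :=
    TopologicalSpace.IrreducibleCloseds.map_strictMono_of_isInducing f.isClosedEmbedding.toIsEmbedding.toIsInducing
  let top : TopologicalSpace.IrreducibleCloseds ↥Y :=
    ⟨Set.univ, IrreducibleSpace.isIrreducible_univ _, isClosed_univ⟩
  have hlt : (l.map φ hφ).last < top := by
    refine lt_of_le_of_ne (fun x _ => trivial) fun h => hne ?_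
    have h1 : closure (f '' (l.last : Set ↥X)) = Set.univ :=
      congrArg (fun z : TopologicalSpace.IrreducibleCloseds ↥Y => (z : Set ↥Y)) h
    refine Set.univ_subset_iff.1 (h1 ▸ closure_minimal (Set.image_subset_range _ _) f.isClosedEmbedding.isClosed_range)
  have h := Order.LTSeries.length_le_krullDim ((l.map φ hφ).snoc top hlt)
  rw [show Order.krullDim (TopologicalSpace.IrreducibleCloseds ↥Y) = topologicalKrullDim ↥Y from rfl, hY] at h
  simp [hl] at h
  have h' : (n + 1 : ℕ) ≤ n := by exact_mod_cast h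
  omega

end Groth.Agent.RootIntrinsic
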