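import Groth.Agent.RootIntrinsic.Roots
import Groth.Agent.RootIntrinsic.Weyl
import Groth.Agent.HomDiag.DualConst
import Groth.Agent.MTSplit.Irreducible
import Groth.Agent.Chev.CharQuot
import Mathlib.RingTheory.OrzechProperty

/-!
# Comparing two splittings along a conjugation of their tori
-/

set_option autoImplicit false
set_option backward.isDefEq.respectTransparency false
set_option linter.style.haveILetI false
set_option linter.unusedSectionVars false
set_option maxHeartbeats 1000000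
set_option synthInstance.maxHeartbeats 400000

universe u

open CategoryTheory MonoidalCategory CartesianMonoidalCategory MonObj AlgebraicGeometry
open Groth.Agent.HomDiag
open scoped CategoryTheory.Obj

noncomputable section

namespace Groth.Agent.RootIntrinsic

variable {k : Type u} [Field k]

/-- Conjugation by a rational point. -/
def inner {G : Over (Spec (CommRingCat.of k))} [GrpObj G] (g : 𝟙_ (Over (Spec (CommRingCat.of k))) ⟶ G) : G ⟶ G :=
  (toUnit G ≫ g) * 𝟙 G * (toUnit G ≫ g)⁻¹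

theorem comp_inner {G X : Over (Spec (CommRingCat.of k))} [GrpObj G] (g : 𝟙_ (Over (Spec (CommRingCat.of k))) ⟶ G)
    (x : X ⟶ G) : x ≫ inner g = (toUnit X ≫ g) * x * (toUnit X ≫ g)⁻¹ := by
  rw [inner, MonObj.comp_mul, MonObj.comp_mul, GrpObj.comp_inv, ← Category.assoc, toUnit_unique (x ≫ toUnit G) (toUnit X),
    Category.comp_id]

instance isMonHom_inner {G : Over (Spec (CommRingCat.of k))} [GrpObj G] (g : 𝟙_ (Over (Spec (CommRingCat.of k))) ⟶ G) :
    IsMonHom (inner g) := HomDiag.isMonHom_of_mul _ fun X a b => by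
  rw [comp_inner, comp_inner, comp_inner]
  group

theorem inner_inv {G : Over (Spec (CommRingCat.of k))} [GrpObj G] (g : 𝟙_ (Over (Spec (CommRingCat.of k))) ⟶ G) :
    inner g ≫ inner g⁻¹ = 𝟙 G := by
  rw [comp_inner, inner, GrpObj.comp_inv]
  group

instance isIso_inner {G : Over (Spec (CommRingCat.of k))} [GrpObj G] (g : 𝟙_ (Over (Spec (CommRingCat.of k))) ⟶ G) :
    IsIso (inner g) :=
  ⟨inner g⁻¹, inner_inv g, by simpa using inner_inv g⁻¹⟩

variable [IsAlgClosed k] {G : Over (Spec (CommRingCat.of k))} [GrpObj G]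

/-- The torus of one splitting goes into the other by a conjugation, through a map on characters. -/
theorem exists_transfer (D D' : Red.SplitRed G) (g : 𝟙_ (Over (Spec (CommRingCat.of k))) ⟶ G)
    (hg : ∀ (X : Over (Spec (CommRingCat.of k))) (t : X ⟶ D.T), ∃ t' : X ⟶ D'.T,
      (toUnit X ≫ g) * (t ≫ D.i) * (toUnit X ≫ g)⁻¹ = t' ≫ D'.i) :
    ∃ (τ : D.T ⟶ D'.T) (ψ : D'.M →+ D.M), τ ≫ D'.i = D.i ≫ inner g ∧
      τ ≫ D'.split.hom.hom.hom = D.split.hom.hom.hom ≫ Red.DSmap _ ψ ∧ Function.Surjective ψ := by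
  haveI := D.maximalTorus.1
  haveI := D.maximalTorus.2.1
  haveI := D'.maximalTorus.1
  haveI := D'.maximalTorus.2.1
  haveI : IsMonHom D.split.inv.hom.hom := D.split.inv.hom.isMonHom_hom
  haveI : IsMonHom D'.split.hom.hom.hom := D'.split.hom.hom.isMonHom_hom
  obtain ⟨τ, hτ⟩ := hg D.T (𝟙 _)
  have hτ' : τ ≫ D'.i = D.i ≫ inner g := by
    rw [← hτ, comp_inner, Category.id_comp]
  haveI : IsMonHom τ := MTSplit.isMonHom_of_comp_mono τ D'.i (D.i ≫ inner g) hτ'
  haveI : Mono τ := by
    haveI : Mono (τ ≫ D'.i) := hτ' ▸ mono_comp D.i (inner g)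
    exact mono_of_mono τ D'.i
  let χ := D.split.inv.hom.hom ≫ τ ≫ D'.split.hom.hom.hom
  haveI : AddGroup.FG D'.M := AddGroup.fg_iff_addMonoid_fg.2 ((Module.Finite.iff_addGroup_fg.1 inferInstance : AddGroup.FG D'.M) |> AddGroup.fg_iff_addMonoid_fg.1)
  obtain ⟨ψ, hψ⟩ := Chev.CharQuot.exists_DSmap χ
  refine ⟨τ, ψ, hτ', ?_, ?_⟩
  · rw [← hψ, reassoc_of% (hom_inv' D.split)]
  · haveI : IsIso D.split.inv.hom.hom := ⟨D.split.hom.hom.hom, inv_hom' D.split, hom_inv' D.split⟩
    haveI : IsIso D'.split.hom.hom.hom := ⟨D'.split.inv.hom.hom, hom_inv' D'.split, inv_hom' D'.split⟩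
    haveI : Mono (Red.DSmap (Spec (CommRingCat.of k)) ψ) := hψ ▸ inferInstanceAs (Mono χ)
    exact surjective_of_mono_DSmap (k := k) ψ

variable [IsAffine G.left] [Smooth G.hom]

/-- The roots of one splitting are carried to roots of the other. -/
theorem exists_root_eq (D D' : Red.SplitRed G) (g : 𝟙_ (Over (Spec (CommRingCat.of k))) ⟶ G) (τ : D.T ⟶ D'.T)
    (ψ : D'.M →+ D.M) (hτ : τ ≫ D'.i = D.i ≫ inner g)
    (hψ : τ ≫ D'.split.hom.hom.hom = D.split.hom.hom.hom ≫ Red.DSmap _ ψ) (hinj : Function.Injective ψ)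
    (b : D'.idx) : ∃ a : D.idx, D.P.root a = ψ (D'.P.root b) := by
  haveI := (D'.rootHom b).1
  haveI := (D'.rootHom b).2.1
  have h0 : ψ (D'.P.root b) ≠ 0 := fun h => by
    have h2 := D'.P.root_coroot_two b
    rw [show D'.P.root b = 0 from hinj (h.trans (map_zero ψ).symm), map_zero, LinearMap.zero_apply] at h2
    omega
  refine root_mem D _ h0 (D'.u b ≫ inner g⁻¹) ⟨inferInstance, ?_, fun X t x => ?_⟩
  · rw [Over.comp_left]
    haveI : IsIso (inner g⁻¹).left := (Over.forget _).map_isIso (inner g⁻¹)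
    infer_instance
  obtain ⟨y, hy, hy'⟩ := (D'.rootHom b).2.2 X (t ≫ τ) x
  refine ⟨y, ?_, hy'.trans ?_⟩
  · rw [← Category.assoc, hy, ← Category.assoc x, comp_inner, comp_inner, Category.assoc t τ D'.i, hτ,
      ← Category.assoc t, comp_inner, GrpObj.comp_inv]
    group
  · congr 1
    rw [Category.assoc t τ, ← Category.assoc τ, hψ, Category.assoc, ← Category.assoc t, ← Category.assoc (t ≫ _),
      gmFn_chi, ch_DSmap, ← gmFn_chi, Category.assoc]
    rfl

theorem reflection_eq (D : Red.SplitRed G) (a : D.idx) (x : D.M) :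
    D.P.reflection a x = x - D.P.coroot a x • D.P.root a := by
  rw [RootPairing.reflection_apply]
  congr 2
  show D.P.toLinearMap x (D.P.coroot a) = _
  rw [D.pairing_eq]
  rfl

theorem coroot_root (D : Red.SplitRed G) (a : D.idx) : D.P.coroot a (D.P.root a) = 2 := by
  have h := D.P.root_coroot_two a
  rw [D.pairing_eq] at h
  exact h

/-- Corresponding roots have corresponding coroots. -/
theorem coroot_eq (D D' : Red.SplitRed G) (g : 𝟙_ (Over (Spec (CommRingCat.of k))) ⟶ G) (τ : D.T ⟶ D'.T)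
    (ψ : D'.M ≃+ D.M) (hτ : τ ≫ D'.i = D.i ≫ inner g)
    (hψ : τ ≫ D'.split.hom.hom.hom = D.split.hom.hom.hom ≫ Red.DSmap _ ψ.toAddMonoidHom)
    (a : D.idx) (b : D'.idx) (hab : D.P.root a = ψ (D'.P.root b)) (y : D'.M) :
    D.P.coroot a (ψ y) = D'.P.coroot b y := by
  haveI := D.maximalTorus.1
  haveI := D.maximalTorus.2.1
  obtain ⟨n, hn⟩ := D.refl a
  obtain ⟨n', hn'⟩ := D'.refl b
  let s : D.M →+ D.M := (D.P.reflection a).toLinearMap.toAddMonoidHom
  let s' : D'.M →+ D'.M := (D'.P.reflection b).toLinearMap.toAddMonoidHom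
  let θ₀ : D.M →+ D.M := (ψ.toAddMonoidHom.comp s').comp ψ.symm.toAddMonoidHom
  have hs : Realises D.i D.split n s := fun X t => by
    rw [hn X t]
    simp only [act, Category.assoc]
    rfl
  have h0 : Realises D.i D.split (g⁻¹ * n' * g) θ₀ := fun X t => by
    have e1 : (toUnit X ≫ g) * (t ≫ D.i) * (toUnit X ≫ g)⁻¹ = (t ≫ τ) ≫ D'.i := by
      rw [Category.assoc, hτ, ← Category.assoc, comp_inner]
    have h := hn' X (t ≫ τ)
    rw [← e1] at h
    have e2 : (t ≫ τ) ≫ D'.split.hom.hom.hom ≫ Red.DSmap _ s' ≫ D'.split.inv.hom.hom ≫ D'.i =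
        ((t ≫ act D.split θ₀) ≫ D.i) ≫ inner g := by
      rw [Category.assoc (t ≫ _) D.i, ← hτ]
      simp only [Category.assoc]
      refine congrArg (t ≫ ·) ?_
      have e3 : τ = D.split.hom.hom.hom ≫ Red.DSmap _ ψ.toAddMonoidHom ≫ D'.split.inv.hom.hom := by
        rw [← reassoc_of% hψ, hom_inv', Category.comp_id]
      rw [← Category.assoc τ, hψ, Category.assoc, reassoc_of% (DSmap_comp_apply (k := k) ψ.toAddMonoidHom s'), act,
        e3]
      simp only [Category.assoc, reassoc_of% (inv_hom' D.split), reassoc_of% (DSmap_comp_apply (k := k) θ₀ ψ.toAddMonoidHom)]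
      congr 3
      exact AddMonoidHom.ext fun z => by simp [θ₀]
    change _ = (t ≫ τ) ≫ D'.split.hom.hom.hom ≫ Red.DSmap _ s' ≫ D'.split.inv.hom.hom ≫ D'.i at h
    rw [e2, comp_inner] at h
    have h' := congrArg (fun z => (toUnit X ≫ g)⁻¹ * z * (toUnit X ≫ g)) h
    simp only [MonObj.comp_mul, GrpObj.comp_inv, mul_inv_rev, _root_.inv_inv] at h' ⊢
    refine Eq.trans ?_ (h'.trans ?_) <;> group
  let f : D.M →+ ℤ := (D.P.coroot a).toAddMonoidHom - (D'.P.coroot b).toAddMonoidHom.comp ψ.symm.toAddMonoidHom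
  have hψb : ψ.symm (D.P.root a) = D'.P.root b := by rw [hab, AddEquiv.symm_apply_apply]
  have ha : D.P.root a ≠ 0 := fun h => by
    have h2 := coroot_root D a
    rw [h, map_zero] at h2
    omega
  have H := h0.mul hs
  have hcomb : s.comp θ₀ = AddMonoidHom.id D.M + (zmultiplesHom D.M (-D.P.root a)).comp f := AddMonoidHom.ext fun x => by
    show D.P.reflection a (ψ (D'.P.reflection b (ψ.symm x))) = x + f x • -D.P.root a
    rw [reflection_eq D', map_sub, map_zsmul, ← hab, AddEquiv.apply_symm_apply, reflection_eq D, map_sub, map_zsmul,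
      coroot_root, show f x = D.P.coroot a x - D'.P.coroot b (ψ.symm x) from rfl, smul_eq_mul]
    module
  rw [hcomb] at H
  have hf : f = 0 := eq_zero_of_realises D.maximalTorus.2.2.1 _ f (-D.P.root a) (by
    show D.P.coroot a (-D.P.root a) - D'.P.coroot b (ψ.symm (-D.P.root a)) = 0
    rw [map_neg, map_neg, map_neg, hψb, coroot_root, coroot_root, sub_self]) (neg_ne_zero.2 ha) H
  have h := congr($hf (ψ y))
  rw [show f (ψ y) = D.P.coroot a (ψ y) - D'.P.coroot b (ψ.symm (ψ y)) from rfl, AddEquiv.symm_apply_apply] at h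
  exact sub_eq_zero.1 h

/-- **Two splittings with conjugate tori have isomorphic root data.** -/
theorem nonempty_equiv (D D' : Red.SplitRed G) (g g' : 𝟙_ (Over (Spec (CommRingCat.of k))) ⟶ G)
    (hg : ∀ (X : Over (Spec (CommRingCat.of k))) (t : X ⟶ D.T), ∃ t' : X ⟶ D'.T,
      (toUnit X ≫ g) * (t ≫ D.i) * (toUnit X ≫ g)⁻¹ = t' ≫ D'.i)
    (hg' : ∀ (X : Over (Spec (CommRingCat.of k))) (t : X ⟶ D'.T), ∃ t' : X ⟶ D.T,
      (toUnit X ≫ g') * (t ≫ D'.i) * (toUnit X ≫ g')⁻¹ = t' ≫ D.i) :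
    Nonempty (RootPairing.Equiv D.P D'.P) := by
  classical
  obtain ⟨τ, ψ, hτ, hψ, hsurj⟩ := exists_transfer D D' g hg
  obtain ⟨-, ψ', -, -, hsurj'⟩ := exists_transfer D' D g' hg'
  have hinj : Function.Injective ψ := by
    have h : Function.Injective (ψ'.comp ψ).toIntLinearMap :=
      OrzechProperty.injective_of_surjective_endomorphism _ (hsurj'.comp hsurj)
    exact Function.Injective.of_comp h
  let Ψ : D'.M ≃+ D.M := AddEquiv.ofBijective ψ ⟨hinj, hsurj⟩
  choose e he using exists_root_eq D D' g τ ψ hτ hψ hinj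
  have hrank : Module.finrank ℤ D'.M = Module.finrank ℤ D.M := Ψ.toIntLinearEquiv.finrank_eq
  have hcard : Fintype.card D'.idx = Fintype.card D.idx := by
    have h := (dim_eq D').symm.trans (dim_eq D)
    rw [hrank] at h
    have h' : Module.finrank ℤ D.M + Fintype.card D'.idx = Module.finrank ℤ D.M + Fintype.card D.idx := by
      exact_mod_cast h
    omega
  have hebij : Function.Bijective e := (Fintype.bijective_iff_injective_and_card e).2
    ⟨fun b b' h => D'.P.root.injective (hinj ((he b).symm.trans ((congrArg D.P.root h).trans (he b')))), hcard⟩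
  let E : D'.idx ≃ D.idx := Equiv.ofBijective e hebij
  have hco : ∀ b y, D.P.coroot (E b) (Ψ y) = D'.P.coroot b y := fun b y =>
    coroot_eq D D' g τ Ψ hτ hψ (E b) b (he b) y
  refine ⟨{
    weightMap := Ψ.symm.toIntLinearEquiv.toLinearMap
    coweightMap := Ψ.symm.toIntLinearEquiv.toLinearMap.dualMap
    indexEquiv := E.symm
    weight_coweight_transpose := ?_
    root_weightMap := ?_
    coroot_coweightMap := ?_
    bijective_weightMap := Ψ.symm.bijective
    bijective_coweightMap := Ψ.symm.toIntLinearEquiv.dualMap.bijective }⟩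
  · refine LinearMap.ext fun y => LinearMap.ext fun x => ?_
    show D'.P.toLinearMap (Ψ.symm x) y = D.P.toLinearMap x _
    rw [D.pairing_eq, D'.pairing_eq]
    rfl
  · funext a
    show Ψ.symm (D.P.root a) = D'.P.root (E.symm a)
    conv_lhs => rw [← E.apply_symm_apply a]
    exact (congrArg Ψ.symm (he (E.symm a))).trans (Ψ.symm_apply_apply _)
  · funext b
    refine LinearMap.ext fun x => ?_
    show D'.P.coroot b (Ψ.symm x) = D.P.coroot (E.symm.symm b) x
    conv_rhs => rw [← Ψ.apply_symm_apply x]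
    exact (hco b _).symm

end Groth.Agent.RootIntrinsic
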