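import Groth.Agent.LieWeight.Weight
import Groth.Agent.SmLocalST.SmoothField
import Groth.Agent.RegLocus.Smooth
import Mathlib.RingTheory.Spectrum.Prime.Topology
import Mathlib.RingTheory.KrullDimension.Basic

/-!
# Independent tangent vectors of a smooth affine group are bounded by the dimension
-/

set_option autoImplicit false
set_option backward.isDefEq.respectTransparency false
set_option linter.style.haveILetI false
set_option linter.unusedSectionVars false
set_option maxHeartbeats 1000000

universe u

open CategoryTheory MonoidalCategory CartesianMonoidalCategory MonObj AlgebraicGeometry LieS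
open Groth.Agent.LieWeight
open scoped CategoryTheory.Obj

noncomputable section

namespace Groth.Agent.RootIntrinsic

variable {k : Type u} [Field k] {G : Over (Spec (CommRingCat.of k))} [GrpObj G] [IsAffine G.left]

/-- The base. -/
abbrev f₀ : Spec (CommRingCat.of k) ⟶ Spec (CommRingCat.of k) := Spec.map (CommRingCat.ofHom (algebraMap k k))

theorem uB_sG_apply (c : k) : uB G (f₀ (k := k)) (sG G c) = c := by
  have h := congrArg CommRingCat.Hom.hom (Spec.map_injective (uB_sG (G := G) (f₀ (k := k))))
  exact congr($h c)

/-- **Linearly independent tangent vectors at the unit are at most as many as the dimension.** -/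
theorem card_le_of_linearIndependent [Smooth G.hom] (n : ℕ)
    (hdim : topologicalKrullDim ↥G.left = (n : WithBot ℕ∞)) {J : Type} [Fintype J] (v : J → Lie G k f₀)
    (hv : LinearIndependent k fun j => dv (v j)) : Fintype.card J ≤ n := by
  classical
  let A : Type u := Γ(G.left, ⊤)
  letI : Algebra k A := (sG G).toAlgebra
  haveI : Smooth (Spec.map (CommRingCat.ofHom (sG G))) := by rw [specMap_sG]; infer_instance
  let e : A →+* k := uB G (f₀ (k := k))
  have he : Function.Surjective e := fun c => ⟨sG G c, uB_sG_apply c⟩
  let m : Ideal A := RingHom.ker e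
  haveI : m.IsMaximal := RingHom.ker_isMaximal_of_surjective e he
  haveI : IsRegularLocalRing (Localization.AtPrime m) := RegLocus.of_stalk (CommRingCat.of A) ⟨m, inferInstance⟩
    (SmLocalST.isRegularLocalRing_stalk_of_smooth_field (Spec.map (CommRingCat.ofHom (sG G))) _)
  let O := Localization.AtPrime m
  obtain ⟨g, hgs, hgcard⟩ : ∃ g : Set O, Ideal.span g = IsLocalRing.maximalIdeal O ∧
      g.Finite ∧ g.ncard = (IsLocalRing.maximalIdeal O).spanFinrank :=
    ⟨(IsLocalRing.maximalIdeal O).generators, Submodule.span_generators _,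
      Submodule.FG.finite_generators (IsNoetherian.noetherian _),
      Submodule.FG.generators_ncard (IsNoetherian.noetherian _)⟩
  have hrange : g.ncard ≤ n := by
    have h1 : ((IsLocalRing.maximalIdeal O).spanFinrank : WithBot ℕ∞) = ringKrullDim O :=
      IsRegularLocalRing.spanFinrank_maximalIdeal
    have h2 : ringKrullDim O ≤ ringKrullDim A := by
      rw [IsLocalization.AtPrime.ringKrullDim_eq_height m O]
      exact Ideal.height_le_ringKrullDim_of_ne_top Ideal.IsPrime.ne_top'
    have h3 : ringKrullDim A = topologicalKrullDim ↥G.left := by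
      rw [← PrimeSpectrum.topologicalKrullDim_eq_ringKrullDim]
      exact (IsHomeomorph.topologicalKrullDim_eq _
        (Scheme.homeoOfIso G.left.isoSpec).isHomeomorph).symm
    rw [h3, hdim] at h2
    rw [← h1, ← hgcard.2] at h2
    exact_mod_cast h2
  haveI : Fintype g := hgcard.1.fintype
  have hnum : ∀ y : g, ∃ x : A, x ∈ m ∧ ∃ s : m.primeCompl, algebraMap A O x = y.1 * algebraMap A O s := fun y => by
    obtain ⟨x, s, hxs⟩ := IsLocalization.exists_mk'_eq m.primeCompl y.1
    have h : algebraMap A O x = y.1 * algebraMap A O s := by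
      rw [← hxs, IsLocalization.mk'_spec]
    refine ⟨x, (IsLocalization.AtPrime.to_map_mem_maximal_iff O m x).1 ?_, s, h⟩
    rw [h]
    exact Ideal.mul_mem_right _ _ (hgs ▸ Ideal.subset_span y.2)
  choose x hxm s hs using hnum
  have hgen : ∀ a ∈ m, ∃ t : m.primeCompl, ∃ b : g → A, (t : A) * a = ∑ y, b y * x y := fun a ha => by
    have h1 : algebraMap A O a ∈ (Ideal.span (Set.range x)).map (algebraMap A O) := by
      have h2 : IsLocalRing.maximalIdeal O ≤ (Ideal.span (Set.range x)).map (algebraMap A O) := by
        rw [← hgs, Ideal.span_le]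
        intro y hy
        obtain ⟨u, hu⟩ := IsLocalization.map_units O (M := m.primeCompl) (s ⟨y, hy⟩)
        have : y = algebraMap A O (x ⟨y, hy⟩) * ↑u⁻¹ := by
          rw [hs ⟨y, hy⟩, ← hu, _root_.mul_assoc, Units.mul_inv, _root_.mul_one]
        rw [this]
        exact Ideal.mul_mem_right _ _ (Ideal.mem_map_of_mem _ (Ideal.subset_span ⟨_, rfl⟩))
      exact h2 ((IsLocalization.AtPrime.to_map_mem_maximal_iff O m a).2 ha)
    obtain ⟨t, htM, ht⟩ := (IsLocalization.algebraMap_mem_map_algebraMap_iff m.primeCompl O _ a).1 h1
    obtain ⟨b, hb⟩ := (Submodule.mem_span_range_iff_exists_fun (R := A)).1 ht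
    exact ⟨⟨t, htM⟩, b, by simpa [smul_eq_mul] using hb.symm⟩
  let δ : J → (A → k) := fun j => dv (v j)
  have hlin : LinearIndependent k fun j => fun y : g => δ j (x y) := by
    rw [Fintype.linearIndependent_iff] at hv ⊢
    intro c hc j₀
    refine hv c (funext fun a => ?_) j₀
    show (∑ j, c j • δ j) a = 0
    have hm : ∀ a ∈ m, (∑ j, c j • δ j) a = 0 := fun a ha => by
      obtain ⟨t, b, hb⟩ := hgen a ha
      have hj : ∀ j, e (t : A) * δ j a = ∑ y, e (b y) * δ j (x y) := fun j => by
        have h1 : δ j ((t : A) * a) = e (t : A) * δ j a := by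
          show dv (v j) _ = _
          rw [dv_leibniz, show uB G (f₀ (k := k)) a = 0 from ha, mul_zero, add_zero]
        rw [← h1, hb]
        have h2 : ∀ (S : Finset g), δ j (∑ y ∈ S, b y * x y) = ∑ y ∈ S, e (b y) * δ j (x y) := fun S => by
          induction S using Finset.induction_on with
          | empty =>
            rw [Finset.sum_empty, Finset.sum_empty]
            have h0 := dv_add (v j) 0 0
            rw [add_zero] at h0
            exact left_eq_add.1 h0
          | insert y S hy ih =>
            rw [Finset.sum_insert hy, Finset.sum_insert hy, ← ih]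
            show dv (v j) _ = _
            rw [dv_add, dv_leibniz, show uB G (f₀ (k := k)) (x y) = 0 from hxm y, mul_zero, add_zero]
        exact h2 _
      have ht : e (t : A) ≠ 0 := t.2
      refine (mul_eq_zero.1 ?_).resolve_left ht
      rw [Finset.sum_apply, Finset.mul_sum]
      calc ∑ j, e (t : A) * (c j • δ j) a = ∑ j, ∑ y, c j * (e (b y) * δ j (x y)) :=
            Finset.sum_congr rfl fun j _ => by rw [Pi.smul_apply, smul_eq_mul, mul_left_comm, hj, Finset.mul_sum]
        _ = ∑ y, e (b y) * ∑ j, c j * δ j (x y) := by
            rw [Finset.sum_comm]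
            exact Finset.sum_congr rfl fun y _ => by rw [Finset.mul_sum]; exact Finset.sum_congr rfl fun j _ => by ring
        _ = 0 := Finset.sum_eq_zero fun y _ => by
            have := congr_fun hc y
            simp only [Finset.sum_apply, Pi.smul_apply, smul_eq_mul, Pi.zero_apply] at this
            rw [this, mul_zero]
    have ha : a - sG G (e a) ∈ m := by
      rw [RingHom.mem_ker, map_sub]
      exact sub_eq_zero.2 (uB_sG_apply (e a)).symm
    have h := hm _ ha
    rw [Finset.sum_apply] at h ⊢
    refine (Finset.sum_congr rfl fun j _ => ?_).trans h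
    rw [Pi.smul_apply, Pi.smul_apply]
    congr 1
    show dv (v j) a = dv (v j) (a - sG G (e a))
    have h0 := dv_add (v j) (a - sG G (e a)) (sG G (e a))
    rw [sub_add_cancel, dv_sG, add_zero] at h0
    exact h0
  have h1 := hlin.fintype_card_le_finrank
  rw [Module.finrank_fintype_fun_eq_card, ← Nat.card_eq_fintype_card (α := g), Nat.card_coe_set_eq] at h1
  exact h1.trans hrange

end Groth.Agent.RootIntrinsic
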