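import Groth.Agent.LieWeight.Weight
import Groth.Agent.RootIntrinsic.LieDim
import Groth.Agent.BGaNotS.GaPts
import Groth.Prelude.Def_Red2

/-!
# Tangent vectors of root groups and of a torus, with their weights
-/

set_option autoImplicit false
set_option backward.isDefEq.respectTransparency false
set_option linter.style.haveILetI false
set_option linter.unusedSectionVars false
set_option maxHeartbeats 1000000
set_option synthInstance.maxHeartbeats 400000

universe u

open CategoryTheory MonoidalCategory CartesianMonoidalCategory MonObj AlgebraicGeometry LieS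
open Groth.Agent.LieWeight Groth.Agent.HomDiag LaurentPolynomial
open scoped CategoryTheory.Obj

noncomputable section

namespace Groth.Agent.RootIntrinsic

variable {S : Scheme.{u}} {M : Type} [AddCommGroup M]

/-- The coordinate of a character. -/
theorem gmFn_eq_ch {X : Over S} (t : X ⟶ Red.Gm S) : Red.gmFn t = ch t (Multiplicative.ofAdd 1) := rfl

/-- The coordinate of a character at a point of a diagonalisable group. -/
theorem gmFn_chi {X : Over S} (t : X ⟶ Red.DS S M) (m : M) :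
    Red.gmFn (t ≫ Red.chi S m) = ch t (Multiplicative.ofAdd m) := by
  rw [gmFn_eq_ch, Red.chi, ch_DSmap]
  simp

variable {k : Type u} [Field k] {G : Over (Spec (CommRingCat.of k))} [GrpObj G] [IsAffine G.left]

/-- The tangent vector of the additive group. -/
def eGa : dpt k (f₀ (k := k)) ⟶ Red.Ga (Spec (CommRingCat.of k)) :=
  BGaNotS.gaPt ((Scheme.ΓSpecIso (CommRingCat.of (DualNumber k))).inv DualNumber.eps)

theorem gaFn_eGa : Red.gaFn (eGa (k := k)) = (Scheme.ΓSpecIso (CommRingCat.of (DualNumber k))).inv DualNumber.eps :=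
  BGaNotS.gaFn_gaPt _

theorem eGa_ne_one : (eGa (k := k)) ≠ 1 := fun h => by
  have h1 := congrArg Red.gaFn h
  rw [gaFn_eGa, BGaNotS.gaFn_one] at h1
  have h2 := congrArg (Scheme.ΓSpecIso (CommRingCat.of (DualNumber k))).hom h1
  rw [map_zero] at h2
  have h3 : (DualNumber.eps : DualNumber k) = 0 :=
    (congr($((Scheme.ΓSpecIso (CommRingCat.of (DualNumber k))).inv_hom_id) DualNumber.eps)).symm.trans h2
  exact one_ne_zero (congrArg TrivSqZeroExt.snd h3)

theorem zeroSec_eGa : zeroSec k (f₀ (k := k)) ≫ eGa = 1 := by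
  refine BGaNotS.gaPt_ext ?_
  rw [BGaNotS.gaFn_one, BGaNotS.gaFn_comp, gaFn_eGa]
  refine (appTop_comp_inv (TrivSqZeroExt.fstHom k k k).toRingHom _).trans ?_
  show (Scheme.ΓSpecIso (CommRingCat.of k)).inv (TrivSqZeroExt.fst DualNumber.eps) = 0
  rw [DualNumber.fst_eps, map_zero]

/-- The tangent vector of a homomorphism out of the additive group. -/
def vU (u : Red.Ga (Spec (CommRingCat.of k)) ⟶ G) [IsMonHom u] : Lie G k f₀ :=
  ⟨eGa ≫ u, (mem_Lie_iff G k f₀ _).2 (by
    rw [← Category.assoc, zeroSec_eGa]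
    exact MonObj.one_comp u)⟩

theorem vU_ne_one (u : Red.Ga (Spec (CommRingCat.of k)) ⟶ G) [IsMonHom u] [Mono u] : vU u ≠ 1 := fun h => by
  have h1 : eGa ≫ u = (1 : dpt k (f₀ (k := k)) ⟶ Red.Ga (Spec (CommRingCat.of k))) ≫ u := by
    rw [MonObj.one_comp]
    exact congrArg Subtype.val h
  exact eGa_ne_one ((cancel_mono u).1 h1)

theorem dv_ne_zero {v : Lie G k (f₀ (k := k))} (hv : v ≠ 1) : dv v ≠ 0 := fun h =>
  hv (dv_injective (h.trans (funext fun a => (dv_one a).symm)))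

theorem appTop_proj {B : Type u} [CommRing B] (f : Spec (CommRingCat.of B) ⟶ Spec (CommRingCat.of k)) (x : B) :
    (proj B f).left.appTop ((Scheme.ΓSpecIso (CommRingCat.of B)).inv x) =
      (Scheme.ΓSpecIso (CommRingCat.of (DualNumber B))).inv (algebraMap B (DualNumber B) x) :=
  appTop_comp_inv (algebraMap B (DualNumber B)) x

theorem appTop_qdual {B B' : Type u} [CommRing B] [CommRing B'] {f : Spec (CommRingCat.of B) ⟶ Spec (CommRingCat.of k)}
    {f' : Spec (CommRingCat.of B') ⟶ Spec (CommRingCat.of k)} (h : B →+* B')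
    (hf : Spec.map (CommRingCat.ofHom h) ≫ f = f') (z : DualNumber B) :
    (qdual h hf).left.appTop ((Scheme.ΓSpecIso (CommRingCat.of (DualNumber B))).inv z) =
      (Scheme.ΓSpecIso (CommRingCat.of (DualNumber B'))).inv (bcHom h z) :=
  appTop_comp_inv (bcHom h) z

theorem appTop_scale {B : Type u} [CommRing B] (f : Spec (CommRingCat.of B) ⟶ Spec (CommRingCat.of k)) (b : B)
    (z : DualNumber B) :
    (scale B f b).left.appTop ((Scheme.ΓSpecIso (CommRingCat.of (DualNumber B))).inv z) =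
      (Scheme.ΓSpecIso (CommRingCat.of (DualNumber B))).inv (scaleHom b z) :=
  appTop_comp_inv (scaleHom b) z

/-- A root homomorphism gives a weight vector. -/
theorem weight_vU {T : Over (Spec (CommRingCat.of k))} [GrpObj T] {i : T ⟶ G} {α : T ⟶ Red.Gm (Spec (CommRingCat.of k))}
    {u : Red.Ga (Spec (CommRingCat.of k)) ⟶ G} [IsMonHom u] (hu : Red.IsRootHom i α u)
    (c₀ : Red.DS (Spec (CommRingCat.of k)) ℤ ⟶ T) (m : ℤ)
    (hc : ∀ (X : Over (Spec (CommRingCat.of k))) (x : X ⟶ Red.DS (Spec (CommRingCat.of k)) ℤ),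
      Red.gmFn (x ≫ c₀ ≫ α) = ch x (Multiplicative.ofAdd m)) :
    Ad G (LaurentPolynomial k) (fT f₀) (xT f₀ ≫ c₀ ≫ i) (pl C rfl (vU u)) =
      (LaurentPolynomial.T m : LaurentPolynomial k) • pl C rfl (vU u) := by
  obtain ⟨y, hy, hy'⟩ := hu.2.2 (dpt (LaurentPolynomial k) (fT f₀)) (proj _ _ ≫ xT f₀ ≫ c₀) (qdual C rfl ≫ eGa)
  refine Subtype.ext ?_
  show (proj _ _ ≫ xT f₀ ≫ c₀ ≫ i) * (qdual C rfl ≫ eGa ≫ u) * (proj _ _ ≫ xT f₀ ≫ c₀ ≫ i)⁻¹ =
    scale _ _ _ ≫ qdual C rfl ≫ eGa ≫ u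
  have hassoc : (proj (LaurentPolynomial k) (fT f₀) ≫ xT f₀ ≫ c₀) ≫ i = proj _ _ ≫ xT f₀ ≫ c₀ ≫ i := by
    rw [Category.assoc, Category.assoc]
  rw [hassoc, Category.assoc] at hy
  rw [← hy]
  have hval : y = scale (LaurentPolynomial k) (fT f₀) (LaurentPolynomial.T m) ≫ qdual C rfl ≫ eGa := by
    refine BGaNotS.gaPt_ext ?_
    rw [hy', Category.assoc, Category.assoc, BGaNotS.gaFn_comp, BGaNotS.gaFn_comp, BGaNotS.gaFn_comp, gaFn_eGa,
      show proj (LaurentPolynomial k) (fT f₀) ≫ xT f₀ ≫ c₀ ≫ α = (proj _ _ ≫ xT f₀) ≫ c₀ ≫ α from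
        (Category.assoc _ _ _).symm, hc, ch_comp, xT, (exists_univ f₀).choose_spec]
    rw [appTop_proj, appTop_qdual, appTop_scale]
    refine (map_mul _ _ _).symm.trans (congrArg _ ?_)
    ext <;> simp [scaleHom, bcHom, Tchar, TrivSqZeroExt.algebraMap_eq_inl']
  rw [hval, Category.assoc, Category.assoc]

/-- Tangent vectors of a commutative subgroup containing a one-parameter subgroup have weight zero. -/
theorem weight_zero {T : Over (Spec (CommRingCat.of k))} [GrpObj T] (i : T ⟶ G) [IsMonHom i]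
    (hT : ∀ (X : Over (Spec (CommRingCat.of k))) (a b : X ⟶ T), a * b = b * a)
    (c₀ : Red.DS (Spec (CommRingCat.of k)) ℤ ⟶ T) (w : Lie T k (f₀ (k := k))) :
    Ad G (LaurentPolynomial k) (fT f₀) (xT f₀ ≫ c₀ ≫ i)
        (pl C rfl ⟨w.1 ≫ i, (mem_Lie_iff G k f₀ _).2 (by
          rw [← Category.assoc, (mem_Lie_iff T k f₀ _).1 w.2, MonObj.one_comp])⟩) =
      (LaurentPolynomial.T (0 : ℤ) : LaurentPolynomial k) • pl C rfl ⟨w.1 ≫ i, (mem_Lie_iff G k f₀ _).2 (by
          rw [← Category.assoc, (mem_Lie_iff T k f₀ _).1 w.2, MonObj.one_comp])⟩ := by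
  rw [T_zero, LieAlg.lie_one_smul]
  refine Subtype.ext ?_
  show (proj _ _ ≫ xT f₀ ≫ c₀ ≫ i) * (qdual C rfl ≫ w.1 ≫ i) * (proj _ _ ≫ xT f₀ ≫ c₀ ≫ i)⁻¹ =
    qdual C rfl ≫ w.1 ≫ i
  have e1 : proj (LaurentPolynomial k) (fT f₀) ≫ xT f₀ ≫ c₀ ≫ i = (proj _ _ ≫ xT f₀ ≫ c₀) ≫ i := by
    rw [Category.assoc, Category.assoc]
  have e2 : qdual (C : k →+* LaurentPolynomial k) (f' := fT f₀) rfl ≫ w.1 ≫ i = (qdual C rfl ≫ w.1) ≫ i :=
    (Category.assoc _ _ _).symm
  rw [e1, e2, ← MonObj.mul_comp, hT, MonObj.mul_comp, mul_inv_cancel_right]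

/-- **Weight vectors of different weights are independent.** -/
theorem sum_filter_eq_zero (c : Red.DS (Spec (CommRingCat.of k)) ℤ ⟶ G) {J : Type} [Fintype J]
    (v : J → Lie G k (f₀ (k := k))) (m : J → ℤ)
    (hv : ∀ j, Ad G (LaurentPolynomial k) (fT f₀) (xT f₀ ≫ c) (pl C rfl (v j)) =
      (T (m j) : LaurentPolynomial k) • pl C rfl (v j))
    (a : J → k) (h : ∑ j, a j • dv (v j) = 0) (m₀ : ℤ) :
    ∑ j ∈ Finset.univ.filter (fun j => m j = m₀), a j • dv (v j) = 0 := by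
  classical
  have h1 : ∏ j, a j • v j = 1 := dv_injective (funext fun x => by
    rw [dv_prod, dv_one]
    refine Eq.trans ?_ (congrFun h x)
    simp [Finset.sum_apply, dv_smul])
  have h2 := congrArg (fun w => Ad G (LaurentPolynomial k) (fT f₀) (xT f₀ ≫ c) (pl C rfl w)) h1
  simp only [map_prod, map_one, pl_smul, Ad_smul, hv] at h2
  funext x
  have h3 := congrArg (fun w => (dv w x).coeff m₀) h2
  simp only [dv_prod, dv_smul, dv_pl, dv_one, AddMonoidAlgebra.coeff_sum, Finsupp.finset_sum_apply,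
    AddMonoidAlgebra.coeff_zero, Finsupp.zero_apply] at h3
  rw [Finset.sum_apply, Pi.zero_apply, Finset.sum_filter]
  refine Eq.trans (Finset.sum_congr rfl fun j _ => ?_) h3
  rw [mul_comm (T (m j) : LaurentPolynomial k) (C (dv (v j) x)), coeff_C_mul, coeff_C_mul_T]
  split <;> simp

end Groth.Agent.RootIntrinsic
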