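import Groth.Agent.RootIntrinsic.CentreRoots
import Groth.Agent.RootIntrinsic.Weyl
import Groth.Agent.MTSplit.Irreducible
import Groth.Agent.Chev.CentralMT
import Groth.Prelude.Def_GmPts

/-!
# An inner automorphism of the torus fixing the roots is trivial
-/

set_option autoImplicit false
set_option backward.isDefEq.respectTransparency false
set_option linter.style.haveILetI false
set_option linter.unusedSectionVars false
set_option maxHeartbeats 1000000
set_option synthInstance.maxHeartbeats 400000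

universe u

open CategoryTheory CategoryTheory.Limits MonoidalCategory CartesianMonoidalCategory MonObj AlgebraicGeometry
open Groth.Agent.HomDiag Groth.Agent.MTBridge
open scoped CategoryTheory.Obj

noncomputable section

namespace Groth.Agent.RootIntrinsic

/-- A unipotent automorphism of the characters realised by a rational point is trivial. -/
theorem eq_zero_of_realises_sq {k : Type u} [Field k] [IsAlgClosed k] {G T : Over (Spec (CommRingCat.of k))} [GrpObj G]
    [GrpObj T] {M : Type} [AddCommGroup M] [IsAffine G.left] [Smooth G.hom] [Module.Free ℤ M] {i : T ⟶ G} [IsMonHom i]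
    [Mono i] {e : Grp.mk T ≅ Grp.mk (Red.DS (Spec (CommRingCat.of k)) M)} (hT : Red.IsTorus T)
    (h : 𝟙_ (Over (Spec (CommRingCat.of k))) ⟶ G) (d : M →+ M) (hd : d.comp d = 0)
    (H : Realises i e h (AddMonoidHom.id M + d)) : d = 0 := by
  have hdd : ∀ x, d (d x) = 0 := fun x => congr($hd x)
  let θ : ℤ → (M →+ M) := fun j => AddMonoidHom.id M + j • d
  have hθ : ∀ j l, (θ j).comp (θ l) = θ (j + l) := fun j l => AddMonoidHom.ext fun x => by
    simp [θ, hdd, add_smul]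
    abel
  have hθ0 : θ 0 = AddMonoidHom.id M := AddMonoidHom.ext fun x => by simp [θ]
  have hn : ∀ n : ℕ, Realises i e (h ^ n) (θ n) := fun n => by
    induction n with
    | zero => rw [pow_zero, Nat.cast_zero, hθ0]; exact realises_one
    | succ n ih =>
      have h1 : θ 1 = AddMonoidHom.id M + d := by simp [θ]
      have h2 := ih.mul (show Realises i e h (θ 1) from h1 ▸ H)
      rw [hθ, ← pow_succ] at h2
      rwa [show ((n + 1 : ℕ) : ℤ) = 1 + (n : ℤ) by push_cast; ring]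
  have hn' : ∀ n : ℕ, Realises i e (h ^ n)⁻¹ (θ (-(n : ℤ))) := fun n =>
    (hn n).inv (by rw [hθ, neg_add_cancel, hθ0])
  obtain ⟨C, _, c, hc, s, hs⟩ := Chev.Borel.exists_finite_weyl i hT
  have hrep : ∀ n : ℕ, ∃ m ∈ s, ∀ (X : Over (Spec (CommRingCat.of k))) (t : X ⟶ T),
      (toUnit X ≫ m) * (t ≫ i) * (toUnit X ≫ m)⁻¹ = (t ≫ act e (θ n)) ≫ i := fun n => by
    obtain ⟨m, hm, z, hz⟩ := hs (h ^ n) fun p => by
      refine ⟨⟨p ≫ act e (θ n), ?_⟩, ⟨p ≫ act e (θ (-(n : ℤ))), ?_⟩⟩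
      · have := hn n _ p
        rwa [toUnit_unique (toUnit _) (𝟙 _), Category.id_comp] at this
      · have := hn' n _ p
        rwa [toUnit_unique (toUnit _) (𝟙 _), Category.id_comp, _root_.inv_inv] at this
    refine ⟨m, hm, fun X t => ?_⟩
    rw [← hn n X t, hz, MonObj.comp_mul, mul_inv_rev]
    have hcomm := ((hc.2.2 _ (z ≫ c)).1 ⟨z, rfl⟩) X (toUnit X) t
    simp only [_root_.mul_assoc]
    rw [← _root_.mul_assoc (toUnit X ≫ z ≫ c) (t ≫ i), hcomm, _root_.mul_assoc, mul_inv_cancel_left]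
  choose m hm hmt using hrep
  obtain ⟨j, l, hne, heq⟩ := Finite.exists_ne_map_eq_of_infinite fun n => (⟨m n, hm n⟩ : {x // x ∈ s})
  have e1 : act e (θ j) = act e (θ l) := by
    refine (cancel_mono i).1 ?_
    have h1 := hmt j T (𝟙 _)
    have h2 := hmt l T (𝟙 _)
    rw [show m j = m l from congrArg Subtype.val heq, h2, Category.id_comp, Category.id_comp] at h1
    exact h1.symm
  refine AddMonoidHom.ext fun x => by_contra fun hx => hne ?_
  have e2 := congr($(act_injective e e1) x)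
  simp only [θ, AddMonoidHom.add_apply, AddMonoidHom.id_apply, AddMonoidHom.smul_apply, add_right_inj] at e2
  exact_mod_cast smul_left_injective ℤ (M := M) hx e2

variable {S : Scheme.{u}} {G : Over S} [GrpObj G] (D : Red.SplitRed G)

/-- An inner automorphism of the torus seen in a geometric fibre. -/
theorem realises_bc (g : 𝟙_ (Over S) ⟶ G) (τ : D.T ⟶ D.T)
    (hτ : ∀ (X : Over S) (t : X ⟶ D.T), (toUnit X ≫ g) * (t ≫ D.i) * (toUnit X ≫ g)⁻¹ = (t ≫ τ) ≫ D.i)
    (s : S) (θ : D.M →+ D.M)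
    (hw : ∀ {Y : Over (Spec (CommRingCat.of (AlgebraicClosure (S.residueField s))))}
        (a : (Over.map (Red.geomPt s)).obj Y ⟶ D.T),
        (a ≫ τ) ≫ D.split.hom.hom.hom = (a ≫ D.split.hom.hom.hom) ≫ Red.DSmap S θ) :
    Realises ((Over.pullback (Red.geomPt s)).map D.i)
      (bcMapIso (Red.geomPt s) D.split ≪≫ bcDS (Red.geomPt s) D.M)
      (toBC (Red.geomPt s) (toUnit _ ≫ g)) θ := by
  generalize he' : bcMapIso (Red.geomPt s) D.split ≪≫ bcDS (Red.geomPt s) D.M = e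
  have he : ∀ {Y : Over (Spec (CommRingCat.of (AlgebraicClosure (S.residueField s))))}
      (a : (Over.map (Red.geomPt s)).obj Y ⟶ D.T) (n : Multiplicative D.M),
      ch (toBC (Red.geomPt s) a ≫ e.hom.hom.hom) n = ch (a ≫ D.split.hom.hom.hom) n := fun {Y} a n => by
    subst he'
    show ch (toBC (Red.geomPt s) a ≫ (Over.pullback (Red.geomPt s)).map D.split.hom.hom.hom ≫
      (bcDS (Red.geomPt s) D.M).hom.hom.hom) n = _
    rw [← Category.assoc, ← toBC_comp, MTQuot.ch_toBC_bcDS]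
  intro Y t
  obtain ⟨a, rfl⟩ := exists_toBC' (Red.geomPt s) t
  rw [comp_toBC, ← Category.assoc ((Over.map (Red.geomPt s)).map (toUnit Y)),
    toUnit_unique ((Over.map (Red.geomPt s)).map (toUnit Y) ≫ toUnit _) (toUnit _)]
  have h2 : toBC (Red.geomPt s) a ≫ e.hom.hom.hom ≫ Red.DSmap _ θ =
      toBC (Red.geomPt s) (a ≫ τ) ≫ e.hom.hom.hom := ch_ext fun n => by
    rw [← Category.assoc, ch_DSmap, he, he, hw, ch_DSmap]
  have h1 : toBC (Red.geomPt s) a ≫ act e θ = toBC (Red.geomPt s) (a ≫ τ) := by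
    rw [act, ← Category.assoc e.hom.hom.hom, ← Category.assoc, h2, Category.assoc, hom_inv' e, Category.comp_id]
  rw [h1, ← toBC_comp, ← toBC_comp, mul_inv_eq_iff_eq_mul, ← toBC_mul, ← toBC_mul]
  exact congrArg (toBC (Red.geomPt s)) (mul_inv_eq_iff_eq_mul.1 (hτ _ a))
/-- The local character map fixes the roots. -/
theorem theta_fix_root (τ : D.T ⟶ D.T) (s : S) (θ : D.M →+ D.M)
    (hroot : ∀ (a : D.idx) (X : Over S) (t : X ⟶ D.T),
      ch ((t ≫ τ) ≫ D.split.hom.hom.hom) (Multiplicative.ofAdd (D.P.root a)) =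
        ch (t ≫ D.split.hom.hom.hom) (Multiplicative.ofAdd (D.P.root a)))
    (hw : ∀ {Y : Over (Spec (CommRingCat.of (AlgebraicClosure (S.residueField s))))}
        (a : (Over.map (Red.geomPt s)).obj Y ⟶ D.T),
        (a ≫ τ) ≫ D.split.hom.hom.hom = (a ≫ D.split.hom.hom.hom) ≫ Red.DSmap S θ)
    (r : D.idx) : θ (D.P.root r) = D.P.root r := by
  obtain ⟨Y, y, hy⟩ := exists_point_separating (k := AlgebraicClosure (S.residueField s)) D.M
  obtain ⟨z, hz⟩ := exists_ch (S := S) (M := D.M) (X := (Over.map (Red.geomPt s)).obj Y)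
    (show Multiplicative D.M →* Γ(((Over.map (Red.geomPt s)).obj Y).left, ⊤) from @ch _ D.M _ Y y)
  have hinv : D.split.inv.hom.hom ≫ D.split.hom.hom.hom = 𝟙 (Red.DS S D.M) :=
    congrArg (fun z => z.hom.hom) D.split.inv_hom_id
  have ha : (z ≫ D.split.inv.hom.hom) ≫ D.split.hom.hom.hom = z := by rw [Category.assoc, hinv, Category.comp_id]
  refine hy ?_
  show ch y _ = ch y _
  have h1 := hroot r _ (z ≫ D.split.inv.hom.hom)
  rw [hw, ha, ch_DSmap, toAdd_ofAdd] at h1
  exact (hz _).symm.trans (h1.trans (hz _))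

/-- The local character map fixes the functionals killing the roots. -/
theorem theta_fix_cochar (g : 𝟙_ (Over S) ⟶ G) (τ : D.T ⟶ D.T)
    (hτ : ∀ (X : Over S) (t : X ⟶ D.T), (toUnit X ≫ g) * (t ≫ D.i) * (toUnit X ≫ g)⁻¹ = (t ≫ τ) ≫ D.i)
    (s : S) (θ : D.M →+ D.M)
    (hw : ∀ {Y : Over (Spec (CommRingCat.of (AlgebraicClosure (S.residueField s))))}
        (a : (Over.map (Red.geomPt s)).obj Y ⟶ D.T),
        (a ≫ τ) ≫ D.split.hom.hom.hom = (a ≫ D.split.hom.hom.hom) ≫ Red.DSmap S θ)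
    (l : D.M →+ ℤ) (hlr : ∀ r : D.idx, l (D.P.root r) = 0) : l.comp θ = l := by
  haveI := D.maximalTorus.1
  haveI := D.maximalTorus.2.1
  have hinv : D.split.inv.hom.hom ≫ D.split.hom.hom.hom = 𝟙 (Red.DS S D.M) :=
    congrArg (fun z => z.hom.hom) D.split.inv_hom_id
  obtain ⟨Y₁, y₁, hy₁⟩ := exists_point_separating (k := AlgebraicClosure (S.residueField s)) ℤ
  obtain ⟨z, hz⟩ := exists_ch (S := S) (M := ℤ) (X := (Over.map (Red.geomPt s)).obj Y₁)
    (show Multiplicative ℤ →* Γ(((Over.map (Red.geomPt s)).obj Y₁).left, ⊤) from @ch _ ℤ _ Y₁ y₁)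
  have ht : (z ≫ Red.DSmap S l ≫ D.split.inv.hom.hom) ≫ D.split.hom.hom.hom = z ≫ Red.DSmap S l := by
    simp only [Category.assoc, hinv, Category.comp_id]
  obtain ⟨c, hc⟩ := exists_factor_kerRoots D (z ≫ Red.DSmap S l ≫ D.split.inv.hom.hom) fun r => GmPts.gmFn_injective (by
    show Red.gmFn _ = Red.gmFn _
    rw [← Category.assoc, gmFn_chi, ht, ch_DSmap, toAdd_ofAdd, hlr, ofAdd_zero, map_one, gmFn_one_eq])
  have hcomm := kerRoots_central D c (toUnit _ ≫ g)
  rw [hc] at hcomm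
  have h1 : (z ≫ Red.DSmap S l ≫ D.split.inv.hom.hom) ≫ τ = z ≫ Red.DSmap S l ≫ D.split.inv.hom.hom :=
    (cancel_mono D.i).1 (by rw [← hτ, ← hcomm, mul_inv_cancel_right])
  refine AddMonoidHom.ext fun m => hy₁ ?_
  show ch y₁ _ = ch y₁ _
  have h2 := congrArg (fun u => ch u (Multiplicative.ofAdd m)) (hw (z ≫ Red.DSmap S l ≫ D.split.inv.hom.hom))
  simp only [h1, ht, ch_DSmap, toAdd_ofAdd] at h2
  exact (hz _).symm.trans (h2.symm.trans (hz _))

theorem sq_eq_zero {M : Type} [AddCommGroup M] [Module.Free ℤ M] (θ : M →+ M)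
    (h : ∀ ν : M →+ ℤ, (ν.comp (θ - AddMonoidHom.id M)).comp θ = ν.comp (θ - AddMonoidHom.id M)) :
    (θ - AddMonoidHom.id M).comp (θ - AddMonoidHom.id M) = 0 := AddMonoidHom.ext fun x => by
  refine (Module.forall_dual_apply_eq_zero_iff ℤ _).1 fun ν => ?_
  have h2 := congr($(h ν.toAddMonoidHom) x)
  simp only [AddMonoidHom.comp_apply, AddMonoidHom.sub_apply, AddMonoidHom.id_apply,
    LinearMap.toAddMonoidHom_coe] at h2 ⊢
  simp only [map_sub] at h2 ⊢
  linarith

/-- The local character map of an inner automorphism fixing the roots is the identity. -/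
theorem theta_eq_id (g : 𝟙_ (Over S) ⟶ G) (τ : D.T ⟶ D.T)
    (hτ : ∀ (X : Over S) (t : X ⟶ D.T), (toUnit X ≫ g) * (t ≫ D.i) * (toUnit X ≫ g)⁻¹ = (t ≫ τ) ≫ D.i)
    (hroot : ∀ (a : D.idx) (X : Over S) (t : X ⟶ D.T),
      ch ((t ≫ τ) ≫ D.split.hom.hom.hom) (Multiplicative.ofAdd (D.P.root a)) =
        ch (t ≫ D.split.hom.hom.hom) (Multiplicative.ofAdd (D.P.root a)))
    (s : S) (θ : D.M →+ D.M)
    (hw : ∀ {Y : Over (Spec (CommRingCat.of (AlgebraicClosure (S.residueField s))))}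
        (a : (Over.map (Red.geomPt s)).obj Y ⟶ D.T),
        (a ≫ τ) ≫ D.split.hom.hom.hom = (a ≫ D.split.hom.hom.hom) ≫ Red.DSmap S θ) :
    θ = AddMonoidHom.id D.M := by
  have hd : (θ - AddMonoidHom.id D.M).comp (θ - AddMonoidHom.id D.M) = 0 := sq_eq_zero θ fun ν =>
    theta_fix_cochar D g τ hτ s θ hw _ fun r => by simp [theta_fix_root D τ s θ hroot hw r]
  have hR := realises_bc D g τ hτ s θ hw
  rw [← add_sub_cancel (AddMonoidHom.id D.M) θ] at hR
  haveI := (D.reductive.2.2 s).1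
  haveI := (D.reductive.2.2 s).2.1
  haveI := D.maximalTorus.1
  haveI := D.maximalTorus.2.1
  haveI : PreservesLimitsOfShape WalkingCospan (Over.pullback (Red.geomPt s)) :=
    (Adjunction.rightAdjoint_preservesLimits (Over.mapPullbackAdj (Red.geomPt s))).preservesLimitsOfShape
  have hmon : IsMonHom (M := Red.bc (Red.geomPt s) D.T) (N := Red.bc (Red.geomPt s) G)
      ((Over.pullback (Red.geomPt s)).map D.i) := inferInstance
  have hmono : Mono ((Over.pullback (Red.geomPt s)).map D.i) := inferInstance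
  have hT := Chev.Borel.isTorus_bc_scheme D.T (Red.geomPt s) D.maximalTorus.2.2.1
  exact sub_eq_zero.1 (@eq_zero_of_realises_sq (AlgebraicClosure (S.residueField s)) _ _ (Red.bc (Red.geomPt s) G)
    (Red.bc (Red.geomPt s) D.T) _ _ D.M _ _ _ _ ((Over.pullback (Red.geomPt s)).map D.i) hmon hmono
    (bcMapIso (Red.geomPt s) D.split ≪≫ bcDS (Red.geomPt s) D.M) hT _ _ hd hR)

/-- **An inner automorphism of the torus which fixes every root fixes the torus.** -/
theorem torus_fixed (g : 𝟙_ (Over S) ⟶ G) (τ : D.T ⟶ D.T)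
    (hτ : ∀ (X : Over S) (t : X ⟶ D.T), (toUnit X ≫ g) * (t ≫ D.i) * (toUnit X ≫ g)⁻¹ = (t ≫ τ) ≫ D.i)
    (hroot : ∀ (a : D.idx) (X : Over S) (t : X ⟶ D.T),
      ch ((t ≫ τ) ≫ D.split.hom.hom.hom) (Multiplicative.ofAdd (D.P.root a)) =
        ch (t ≫ D.split.hom.hom.hom) (Multiplicative.ofAdd (D.P.root a))) :
    τ = 𝟙 D.T := by
  haveI := D.maximalTorus.1
  haveI := D.maximalTorus.2.1
  haveI : IsMonHom D.split.inv.hom.hom := D.split.inv.hom.isMonHom_hom
  haveI : IsMonHom D.split.hom.hom.hom := D.split.hom.hom.isMonHom_hom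
  haveI : IsMonHom τ := HomDiag.isMonHom_of_mul τ fun X a b => (cancel_mono D.i).1 (by
    rw [← hτ X (a * b), MonObj.mul_comp (a ≫ τ), ← hτ X a, ← hτ X b, MonObj.mul_comp]
    group)
  have hinv : D.split.inv.hom.hom ≫ D.split.hom.hom.hom = 𝟙 (Red.DS S D.M) :=
    congrArg (fun z => z.hom.hom) D.split.inv_hom_id
  have hhom : D.split.hom.hom.hom ≫ D.split.inv.hom.hom = 𝟙 D.T :=
    congrArg (fun z => z.hom.hom) D.split.hom_inv_id
  haveI : AddGroup.FG D.M := Module.Finite.iff_addGroup_fg.1 inferInstance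
  let w : Red.DS S D.M ⟶ Red.DS S D.M := D.split.inv.hom.hom ≫ τ ≫ D.split.hom.hom.hom
  have key : ∀ s : S, ∃ V : S.Opens, s ∈ V ∧ ∀ (X : Over S), Set.range X.hom ⊆ (V : Set S) →
      ∀ x : X ⟶ Red.DS S D.M, x ≫ w = x := by
    intro s
    obtain ⟨V, θ, hsV, hθ⟩ := MTQuot.exists_local_DSmap w s
    refine ⟨V, hsV, fun X hX x => ?_⟩
    suffices h : θ = AddMonoidHom.id D.M by
      rw [hθ X hX x, h, MTQuot.DSmap_id, Category.comp_id]
    refine theta_eq_id D g τ hτ hroot s θ fun {Y} a => ?_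
    rw [← hθ _ (by
      rintro _ ⟨y, rfl⟩
      have h2 : (Y.hom ≫ Red.geomPt s) y = s := Scheme.fromSpecResidueField_apply s _
      show (Y.hom ≫ Red.geomPt s) y ∈ V
      rw [h2]
      exact hsV)]
    simp only [w, Category.assoc, reassoc_of% hhom]
  choose V hsV hV using key
  apply Over.OverMorphism.ext
  refine Scheme.Cover.hom_ext (D.T.left.openCoverOfIsOpenCover (fun s : S => D.T.hom ⁻¹ᵁ V s)
    (TopologicalSpace.IsOpenCover.mk (top_le_iff.1 fun y _ =>
      TopologicalSpace.Opens.mem_iSup.2 ⟨D.T.hom y, hsV _⟩))) _ _ fun s => ?_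
  let X : Over S := Over.mk ((D.T.hom ⁻¹ᵁ V s).ι ≫ D.T.hom)
  let ι₁ : X ⟶ D.T := Over.homMk (D.T.hom ⁻¹ᵁ V s).ι rfl
  have h := hV s X (by rintro _ ⟨y, rfl⟩; exact y.2) (ι₁ ≫ D.split.hom.hom.hom)
  simp only [w, Category.assoc, reassoc_of% hhom] at h
  have h' : ι₁ ≫ τ = ι₁ := by
    have := congrArg (· ≫ D.split.inv.hom.hom) h
    simpa only [Category.assoc, hhom, Category.comp_id] using this
  show (D.T.hom ⁻¹ᵁ V s).ι ≫ τ.left = (D.T.hom ⁻¹ᵁ V s).ι ≫ 𝟙 _
  rw [Category.comp_id]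
  exact congrArg CommaMorphism.left h'

end Groth.Agent.RootIntrinsic
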