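import Groth.Agent.RootIntrinsic.Torus
import Groth.Agent.Chev.GeomPtIso
import Mathlib.Algebra.Polynomial.Roots
import Mathlib.LinearAlgebra.FreeModule.Finite.Basic

/-!
# All roots of a split reductive group over an algebraically closed field
-/

set_option autoImplicit false
set_option backward.isDefEq.respectTransparency false
set_option linter.style.haveILetI false
set_option linter.unusedSectionVars false
set_option maxHeartbeats 1000000
set_option synthInstance.maxHeartbeats 400000

universe u

open CategoryTheory MonoidalCategory CartesianMonoidalCategory MonObj AlgebraicGeometry LieS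
open Groth.Agent.LieWeight Groth.Agent.HomDiag LaurentPolynomial
open scoped CategoryTheory.Obj

noncomputable section

namespace Groth.Agent.RootIntrinsic

/-- Finitely many non-zero vectors of a lattice are seen by one functional. -/
theorem exists_functional {M : Type} [AddCommGroup M] [Module.Finite ℤ M] [Module.Free ℤ M] (F : Set M) (hF : F.Finite) :
    ∃ l : M →+ ℤ, ∀ x ∈ F, l x = 0 → x = 0 := by
  classical
  let b := Module.finBasis ℤ M
  let P : M → Polynomial ℤ := fun x => ∑ j : Fin (Module.finrank ℤ M), Polynomial.monomial (j : ℕ) (b.repr x j)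
  have hP : ∀ x, P x = 0 → x = 0 := fun x hx => by
    refine b.repr.injective (Finsupp.ext fun j => ?_)
    have h := congrArg (fun q => Polynomial.coeff q (j : ℕ)) hx
    simp only [P, Polynomial.finset_sum_coeff, Polynomial.coeff_monomial, Polynomial.coeff_zero] at h
    rw [Finset.sum_eq_single j] at h
    · simpa using h
    · exact fun i _ hi => if_neg fun e => hi (Fin.ext e)
    · exact fun h' => absurd (Finset.mem_univ j) h'
  have hfin : (⋃ x ∈ F ∩ {x | x ≠ 0}, {N : ℤ | (P x).IsRoot N}).Finite :=
    (hF.inter_of_left _).biUnion fun x hx => Polynomial.finite_setOf_isRoot fun h => hx.2 (hP x h)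
  obtain ⟨N, hN⟩ := hfin.infinite_compl.nonempty
  refine ⟨∑ j : Fin _, (N ^ (j : ℕ)) • (b.coord j).toAddMonoidHom, fun x hx h => by_contra fun h0 => hN ?_⟩
  refine Set.mem_biUnion ⟨hx, h0⟩ ?_
  show (P x).eval N = 0
  rw [← h]
  simp [P, Polynomial.eval_finset_sum, mul_comm]

variable {k : Type u} [Field k] [IsAlgClosed k] {G : Over (Spec (CommRingCat.of k))} [GrpObj G] [IsAffine G.left]
  [Smooth G.hom]

theorem dim_bc_iso {Y Z : Scheme.{u}} (X : Over Z) (g : Y ⟶ Z) [IsIso g] (c : WithBot ℕ∞)
    (h : topologicalKrullDim ↥((Over.pullback g).obj X).left = c) : topologicalKrullDim ↥X.left = c := by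
  rw [← h]
  exact (IsHomeomorph.topologicalKrullDim_eq _
    (Scheme.homeoOfIso (asIso (Limits.pullback.fst X.hom g))).isHomeomorph).symm

theorem dim_eq (D : Red.SplitRed G) :
    topologicalKrullDim ↥G.left = ((Module.finrank ℤ D.M + Fintype.card D.idx : ℕ) : WithBot ℕ∞) :=
  let s : ↥(Spec (CommRingCat.of k)) := IsLocalRing.closedPoint k
  @dim_bc_iso _ _ G (Red.geomPt s) (Chev.Borel.isIso_geomPt k s) _ (D.dim_fibre s)

/-- The one-parameter subgroup of a functional. -/
def cochar (D : Red.SplitRed G) (l : D.M →+ ℤ) : Red.DS (Spec (CommRingCat.of k)) ℤ ⟶ D.T :=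
  Red.DSmap _ l ≫ D.split.inv.hom.hom

theorem gmFn_cochar (D : Red.SplitRed G) (l : D.M →+ ℤ) (m : D.M) (X : Over (Spec (CommRingCat.of k)))
    (x : X ⟶ Red.DS (Spec (CommRingCat.of k)) ℤ) :
    Red.gmFn (x ≫ cochar D l ≫ D.split.hom.hom.hom ≫ Red.chi _ m) = ch x (Multiplicative.ofAdd (l m)) := by
  have h : D.split.inv.hom.hom ≫ D.split.hom.hom.hom = 𝟙 (Red.DS (Spec (CommRingCat.of k)) D.M) :=
    congrArg (fun z => z.hom.hom) D.split.inv_hom_id
  have e : x ≫ cochar D l ≫ D.split.hom.hom.hom ≫ Red.chi _ m = (x ≫ Red.DSmap _ l) ≫ Red.chi _ m := by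
    rw [cochar, Category.assoc, Category.assoc, reassoc_of% h]
  rw [e, gmFn_chi, ch_DSmap]
  rfl

/-- **Every non-zero character affording a root homomorphism is one of the roots.** -/
theorem root_mem (D : Red.SplitRed G) (m : D.M) (hm : m ≠ 0) (u' : Red.Ga (Spec (CommRingCat.of k)) ⟶ G)
    (hu' : Red.IsRootHom D.i (D.split.hom.hom.hom ≫ Red.chi _ m) u') : ∃ a : D.idx, D.P.root a = m := by
  classical
  by_contra hne
  simp only [not_exists] at hne
  let μr : Option D.idx → D.M := fun o => o.elim m (fun a => D.P.root a)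
  have hμ0 : ∀ o, μr o ≠ 0 := by
    rintro (_ | a)
    · exact hm
    · intro h
      have h2 := D.P.root_coroot_two a
      rw [show D.P.root a = 0 from h, map_zero, LinearMap.zero_apply] at h2
      omega
  have hμinj : Function.Injective μr := by
    rintro (_ | a) (_ | b) h
    · rfl
    · exact absurd h.symm (hne b)
    · exact absurd h (hne a)
    · exact congrArg some (D.P.root.injective h)
  obtain ⟨l, hl⟩ := exists_functional ((Set.range fun p : Option D.idx × Option D.idx => μr p.1 - μr p.2) ∪ Set.range μr)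
    ((Set.finite_range _).union (Set.finite_range _))
  have hl0 : ∀ o, l (μr o) ≠ 0 := fun o h => hμ0 o (hl _ (Or.inr ⟨o, rfl⟩) h)
  have hlinj : ∀ o o', l (μr o) = l (μr o') → o = o' := fun o o' h =>
    hμinj (sub_eq_zero.1 (hl _ (Or.inl ⟨(o, o'), rfl⟩) (by rw [map_sub, h, sub_self])))
  haveI := D.maximalTorus.1
  haveI := D.maximalTorus.2.1
  let un : Option D.idx → (Red.Ga (Spec (CommRingCat.of k)) ⟶ G) := fun o => o.elim u' D.u
  have hun : ∀ o, Red.IsRootHom D.i (D.split.hom.hom.hom ≫ Red.chi _ (μr o)) (un o) := by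
    rintro (_ | a)
    · exact hu'
    · exact D.rootHom a
  haveI : ∀ o, IsMonHom (un o) := fun o => (hun o).1
  haveI : ∀ o, Mono (un o) := fun o => by
    haveI := (hun o).2.1
    exact (Over.forget _).mono_of_mono_map (show Mono (un o).left from inferInstance)
  haveI : IsMonHom D.split.inv.hom.hom := D.split.inv.hom.isMonHom_hom
  haveI : IsIso D.split.inv.hom.hom := ⟨D.split.hom.hom.hom,
    congrArg (fun z => z.hom.hom) D.split.inv_hom_id, congrArg (fun z => z.hom.hom) D.split.hom_inv_id⟩
  let b := Module.finBasis ℤ D.M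
  choose w hw using fun j => exists_tanDS (k := k) ((Int.castAddHom k).comp (b.coord j).toAddMonoidHom)
  let v : Option D.idx ⊕ Fin (Module.finrank ℤ D.M) → Lie G k (f₀ (k := k)) :=
    Sum.elim (fun o => vU (un o)) (fun j => lieMap D.i (lieMap D.split.inv.hom.hom (w j)))
  let wt : Option D.idx ⊕ Fin (Module.finrank ℤ D.M) → ℤ := Sum.elim (fun o => l (μr o)) (fun _ => 0)
  have hwt : ∀ j, Ad G (LaurentPolynomial k) (fT f₀) (xT f₀ ≫ cochar D l ≫ D.i) (pl C rfl (v j)) =
      (T (wt j) : LaurentPolynomial k) • pl C rfl (v j) := by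
    rintro (o | j)
    · exact weight_vU (hun o) (cochar D l) (l (μr o)) fun X x => gmFn_cochar D l (μr o) X x
    · exact weight_zero D.i (comm_of_split D.split) (cochar D l) (lieMap D.split.inv.hom.hom (w j))
  have hlin : LinearIndependent k fun j => dv (v j) := by
    rw [Fintype.linearIndependent_iff]
    intro a ha
    have hroot : ∀ o, a (Sum.inl o) = 0 := fun o => by
      have h := sum_filter_eq_zero (cochar D l ≫ D.i) v wt hwt a ha (l (μr o))
      rw [Finset.sum_eq_single (Sum.inl o : Option D.idx ⊕ Fin (Module.finrank ℤ D.M))] at h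
      · exact (smul_eq_zero.1 h).resolve_right (dv_ne_zero (vU_ne_one (un o)))
      · rintro (o' | j) hj hne'
        · exact absurd (congrArg Sum.inl (hlinj o' o (Finset.mem_filter.1 hj).2)) hne'
        · exact absurd (Finset.mem_filter.1 hj).2.symm (hl0 o)
      · intro h'
        refine (h' ?_).elim
        exact Finset.mem_filter.2 ⟨Finset.mem_univ _, rfl⟩
    have htor : ∀ j, a (Sum.inr j) = 0 := by
      have h1 : ∑ j, a (Sum.inr j) • dv (v (Sum.inr j)) = 0 := by
        have h := ha
        rw [Fintype.sum_sum_type] at h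
        simpa [hroot] using h
      have h2 : ∏ j, a (Sum.inr j) • w j = 1 := by
        refine lieMap_injective D.split.inv.hom.hom (lieMap_injective D.i (dv_injective (funext fun x => ?_)))
        rw [map_prod, map_prod, map_one, map_one, dv_prod, dv_one]
        simp only [lieMap_smul, dv_smul]
        refine Eq.trans ?_ (congrFun h1 x)
        simp [Finset.sum_apply, v]
      intro j
      have h3 := eq_zero_of_prod_eq_one _ w hw (fun j => a (Sum.inr j)) h2 (b j)
      rw [Finset.sum_eq_single j] at h3
      · simpa [b.coord_apply, b.repr_self] using h3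
      · intro i _ hi
        simp [b.coord_apply, b.repr_self, Finsupp.single_apply, Ne.symm hi]
      · exact fun h' => absurd (Finset.mem_univ j) h'
    rintro (o | j)
    · exact hroot o
    · exact htor j
  have h := card_le_of_linearIndependent _ (dim_eq D) v hlin
  simp at h
  omega

end Groth.Agent.RootIntrinsic
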