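import Groth.Agent.RootIntrinsic.Tangent

/-!
# Tangent vectors of a split torus in a group
-/

set_option autoImplicit false
set_option backward.isDefEq.respectTransparency false
set_option linter.style.haveILetI false
set_option linter.unusedSectionVars false
set_option maxHeartbeats 1000000
set_option synthInstance.maxHeartbeats 400000

universe u

open CategoryTheory MonoidalCategory CartesianMonoidalCategory MonObj AlgebraicGeometry LieS
open Groth.Agent.LieWeight Groth.Agent.HomDiag LaurentPolynomial
open scoped CategoryTheory.Obj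

noncomputable section

namespace Groth.Agent.RootIntrinsic

variable {k : Type u} [Field k] {G T : Over (Spec (CommRingCat.of k))} [GrpObj G] [GrpObj T]

/-- Tangent vectors are functorial. -/
def lieMap (i : T ⟶ G) [IsMonHom i] : Lie T k (f₀ (k := k)) →* Lie G k f₀ where
  toFun w := ⟨w.1 ≫ i, (mem_Lie_iff G k f₀ _).2 (by
    rw [← Category.assoc, (mem_Lie_iff T k f₀ _).1 w.2, MonObj.one_comp])⟩
  map_one' := Subtype.ext (MonObj.one_comp i)
  map_mul' v w := Subtype.ext (MonObj.mul_comp _ _ i)

theorem lieMap_smul (i : T ⟶ G) [IsMonHom i] (a : k) (w : Lie T k (f₀ (k := k))) :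
    lieMap i (a • w) = a • lieMap i w :=
  Subtype.ext (Category.assoc _ _ _)

theorem lieMap_injective (i : T ⟶ G) [IsMonHom i] [Mono i] : Function.Injective (lieMap i) := fun v w h =>
  Subtype.ext ((cancel_mono i).1 (congrArg Subtype.val h))

variable {M : Type} [AddCommGroup M]

/-- The character values of a tangent vector of a diagonalisable group. -/
def dchar (φ : M →+ k) : Multiplicative M →* Γ(Spec (CommRingCat.of (DualNumber k)), ⊤) :=
  ((Scheme.ΓSpecIso (CommRingCat.of (DualNumber k))).inv.hom.toMonoidHom).comp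
    { toFun := fun m => TrivSqZeroExt.inl 1 + TrivSqZeroExt.inr (φ m.toAdd)
      map_one' := by ext <;> simp
      map_mul' := fun a b => by
        ext
        · simp
        · simp [add_comm] }

/-- The tangent vector of a diagonalisable group given by an additive map. -/
theorem exists_tanDS (φ : M →+ k) :
    ∃ w : Lie (Red.DS (Spec (CommRingCat.of k)) M) k (f₀ (k := k)), ∀ m, ch w.1 m = dchar φ m := by
  obtain ⟨x, hx⟩ := exists_ch (S := Spec (CommRingCat.of k)) (M := M) (X := dpt k (f₀ (k := k))) (dchar φ)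
  refine ⟨⟨x, (mem_Lie_iff _ k f₀ _).2 (ch_ext fun m => ?_)⟩, hx⟩
  rw [ch_comp, hx, ch_one]
  refine (appTop_comp_inv (TrivSqZeroExt.fstHom k k k).toRingHom _).trans ?_
  show (Scheme.ΓSpecIso (CommRingCat.of k)).inv (TrivSqZeroExt.fst (TrivSqZeroExt.inl 1 + TrivSqZeroExt.inr (φ m.toAdd))) = 1
  simp

/-- The combination of tangent vectors of a diagonalisable group in terms of additive maps. -/
theorem eq_zero_of_prod_eq_one {J : Type} [Fintype J] (φ : J → (M →+ k))
    (w : J → Lie (Red.DS (Spec (CommRingCat.of k)) M) k (f₀ (k := k))) (hw : ∀ j m, ch (w j).1 m = dchar (φ j) m)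
    (a : J → k) (h : ∏ j, a j • w j = 1) (m : M) : ∑ j, a j * φ j m = 0 := by
  classical
  have key : ∀ s : Finset J, ch (∏ j ∈ s, a j • w j : Lie (Red.DS (Spec (CommRingCat.of k)) M) k (f₀ (k := k))).1
      (Multiplicative.ofAdd m) = (Scheme.ΓSpecIso (CommRingCat.of (DualNumber k))).inv
        (TrivSqZeroExt.inl 1 + TrivSqZeroExt.inr (∑ j ∈ s, a j * φ j m)) := fun s => by
    induction s using Finset.induction_on with
    | empty =>
      rw [Finset.prod_empty, Finset.sum_empty]
      refine (ch_one _).trans ?_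
      simp
    | insert j s hj ih =>
      rw [Finset.prod_insert hj, Finset.sum_insert hj]
      refine (ch_mul _ _ _).trans ?_
      rw [ih]
      have h1 : ch (a j • w j).1 (Multiplicative.ofAdd m) = (Scheme.ΓSpecIso (CommRingCat.of (DualNumber k))).inv
          (TrivSqZeroExt.inl 1 + TrivSqZeroExt.inr (a j * φ j m)) := by
        show ch (scale k f₀ (a j) ≫ (w j).1) _ = _
        rw [ch_comp, hw]
        refine (appTop_scale f₀ (a j) _).trans (congrArg _ ?_)
        ext <;> simp [scaleHom, TrivSqZeroExt.algebraMap_eq_inl', mul_comm]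
      rw [h1]
      refine (map_mul _ _ _).symm.trans (congrArg _ ?_)
      ext <;> simp [add_comm]
  have h1 := key Finset.univ
  rw [h] at h1
  replace h1 := (ch_one _).symm.trans h1
  have h2 := congrArg (fun z => TrivSqZeroExt.snd ((Scheme.ΓSpecIso (CommRingCat.of (DualNumber k))).hom z)) h1
  have h3 : ∀ z, (Scheme.ΓSpecIso (CommRingCat.of (DualNumber k))).hom
      ((Scheme.ΓSpecIso (CommRingCat.of (DualNumber k))).inv z) = z := fun z =>
    congr($((Scheme.ΓSpecIso (CommRingCat.of (DualNumber k))).inv_hom_id) z)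
  rw [h3, map_one] at h2
  simpa using h2.symm

theorem comm_of_split (e : Grp.mk T ≅ Grp.mk (Red.DS (Spec (CommRingCat.of k)) M))
    (X : Over (Spec (CommRingCat.of k))) (a b : X ⟶ T) : a * b = b * a := by
  haveI : IsMonHom e.hom.hom.hom := e.hom.hom.isMonHom_hom
  haveI : IsMonHom e.inv.hom.hom := e.inv.hom.isMonHom_hom
  have hid : e.hom.hom.hom ≫ e.inv.hom.hom = 𝟙 T :=
    congrArg (fun z => z.hom.hom) e.hom_inv_id
  have h : ∀ c : X ⟶ T, (c ≫ e.hom.hom.hom) ≫ e.inv.hom.hom = c := fun c => by
    rw [Category.assoc, hid, Category.comp_id]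
  rw [← h (a * b), ← h (b * a)]
  refine congrArg (fun z : X ⟶ Red.DS (Spec (CommRingCat.of k)) M => z ≫ e.inv.hom.hom) (ch_ext fun m => ?_)
  rw [MonObj.mul_comp, MonObj.mul_comp, ch_mul, ch_mul, mul_comm]

end Groth.Agent.RootIntrinsic
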